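import Mathlib
import Cfsg.Prelude.Def_OddOrderLocal
import Cfsg.Agent.Lib.Helper97.FrobFormula
import Cfsg.Agent.Lib.Helper1.SZInternal
import Cfsg.Agent.Lib.Helper87.PGroupFrattini
import Cfsg.Agent.Lib.Helper54.HHSpecial

/-!
# Prime action of a complement on a non-nilpotent normal Hall subgroup (BG 15.2, group theory)

`M = S ⋊ K`, `C_S(k) = Ks` of prime order `q` for every `k ∈ K`, `k ≠ 1`.  This file treats a
`K`-invariant complement `D` of a normal Sylow `q`-subgroup `Q ≥ Ks` of `S`: the Frobenius group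
`D ⋊ K` acts on `Q` and the fixed point formula gives the structure of `Q / C_Q(D)`.
-/

set_option autoImplicit false

namespace Cfsg.Agent.Lib.Helper54.BG

open scoped commutatorElement

universe u

variable {G : Type u} [Group G] [Finite G]

/-- The image of the Frattini subgroup of `Q` is normalized by the normalizer of `Q`. -/
theorem frat_normalizer (Q : Subgroup G) :
    Subgroup.normalizer (Q : Set G) ≤
      Subgroup.normalizer (((frattini ↥Q).map Q.subtype : Subgroup G) : Set G) := by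
  intro y hy
  apply Cfsg.Agent.Lib.Helper54.mem_normalizer_of_conj_mem
  rintro _ ⟨f, hf, rfl⟩
  let α : MulAut ↥Q := Cfsg.Agent.Lib.Helper48.normConj Q ⟨y, hy⟩
  have h1 := Subgroup.characteristic_iff_comap_eq.mp (frattini_characteristic (G := ↥Q)) α
  have h2 : f ∈ (frattini ↥Q).comap α.toMonoidHom := by rw [h1]; exact hf
  exact ⟨α f, h2, rfl⟩

/-- The Frattini subgroup consists of non-generators (subgroup form). -/
theorem frat_nongen (Q C : Subgroup G) (hCQ : C ≤ Q)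
    (h : Q ≤ C ⊔ (frattini ↥Q).map Q.subtype) : C = Q := by
  have hΦQ : (frattini ↥Q).map Q.subtype ≤ Q := Subgroup.map_subtype_le _
  have hsup : C ⊔ (frattini ↥Q).map Q.subtype = Q := le_antisymm (sup_le hCQ hΦQ) h
  have hΦ : ((frattini ↥Q).map Q.subtype).subgroupOf Q = frattini ↥Q :=
    Subgroup.comap_map_eq_self_of_injective Q.subtype_injective _
  have h1 : C.subgroupOf Q ⊔ frattini ↥Q = ⊤ := by
    rw [← hΦ, ← Subgroup.subgroupOf_sup hCQ hΦQ, hsup, Subgroup.subgroupOf_self]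
  have h2 := frattini_nongenerating h1
  apply le_antisymm hCQ
  intro x hx
  have h3 : (⟨x, hx⟩ : ↥Q) ∈ C.subgroupOf Q := by rw [h2]; exact Subgroup.mem_top _
  exact h3

omit [Finite G] in
/-- An element normalizing `A` and `B` normalizes `A ⊓ B`. -/
theorem mem_normalizer_inf {A B : Subgroup G} {g : G}
    (hA : g ∈ Subgroup.normalizer (A : Set G)) (hB : g ∈ Subgroup.normalizer (B : Set G)) :
    g ∈ Subgroup.normalizer ((A ⊓ B : Subgroup G) : Set G) := by
  rw [Subgroup.mem_normalizer_iff]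
  intro x
  rw [Subgroup.mem_inf, Subgroup.mem_inf, ← Subgroup.mem_normalizer_iff.mp hA x,
    ← Subgroup.mem_normalizer_iff.mp hB x]

/-- An element normalizing `A` and `B` normalizes `A ⊔ B`. -/
theorem mem_normalizer_sup {A B : Subgroup G} {g : G}
    (hA : g ∈ Subgroup.normalizer (A : Set G)) (hB : g ∈ Subgroup.normalizer (B : Set G)) :
    g ∈ Subgroup.normalizer ((A ⊔ B : Subgroup G) : Set G) := by
  apply Cfsg.Agent.Lib.Helper54.mem_normalizer_of_conj_mem
  intro x hx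
  have h1 : (A ⊔ B).map (MulAut.conj g).toMonoidHom ≤ A ⊔ B := by
    rw [Subgroup.map_sup]
    apply sup_le_sup
    · rintro _ ⟨a, ha, rfl⟩
      exact (Subgroup.mem_normalizer_iff.mp hA a).mp ha
    · rintro _ ⟨b, hb, rfl⟩
      exact (Subgroup.mem_normalizer_iff.mp hB b).mp hb
  exact h1 ⟨x, hx, rfl⟩

/-- An element normalizing `D` normalizes its centralizer. -/
theorem mem_normalizer_centralizer {D : Subgroup G} {g : G}
    (hD : g ∈ Subgroup.normalizer (D : Set G)) :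
    g ∈ Subgroup.normalizer ((Subgroup.centralizer (D : Set G) : Subgroup G) : Set G) := by
  apply Cfsg.Agent.Lib.Helper54.mem_normalizer_of_conj_mem
  intro x hx
  rw [Subgroup.mem_centralizer_iff] at hx ⊢
  intro d hd
  have hd' : g⁻¹ * d * g ∈ D := (Subgroup.mem_normalizer_iff''.mp hD d).mp hd
  have h1 := hx _ hd'
  calc d * (g * x * g⁻¹) = g * ((g⁻¹ * d * g) * x) * g⁻¹ := by group
    _ = g * (x * (g⁻¹ * d * g)) * g⁻¹ := by rw [h1]
    _ = g * x * g⁻¹ * d := by group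

omit [Finite G] in
/-- A product of two elementwise commuting nilpotent subgroups is nilpotent. -/
theorem isNilpotent_of_commuting_prod {A B S : Subgroup G} (hA : Group.IsNilpotent A)
    (hB : Group.IsNilpotent B) (hcomm : ∀ a ∈ A, ∀ b ∈ B, a * b = b * a)
    (hS : ∀ s ∈ S, ∃ a ∈ A, ∃ b ∈ B, s = a * b) (hAS : A ≤ S) (hBS : B ≤ S) :
    Group.IsNilpotent S := by
  let f : ↥A × ↥B →* G :=
    MonoidHom.noncommCoprod A.subtype B.subtype (fun a b => hcomm a a.2 b b.2)
  have hr : f.range = S := by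
    apply le_antisymm
    · rintro _ ⟨⟨a, b⟩, rfl⟩
      have : f (a, b) = (a : G) * (b : G) := rfl
      rw [this]
      exact S.mul_mem (hAS a.2) (hBS b.2)
    · intro s hs
      obtain ⟨a, ha, b, hb, rfl⟩ := hS s hs
      exact ⟨(⟨a, ha⟩, ⟨b, hb⟩), rfl⟩
  have h1 : Group.IsNilpotent f.range :=
    Group.nilpotent_of_surjective f.rangeRestrict f.rangeRestrict_surjective
  rw [hr] at h1
  exact h1

omit [Finite G] in
/-- Elements of a subgroup of prime order are powers of any non-identity element. -/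
theorem le_of_prime_card_of_mem {H L : Subgroup G} {q : ℕ} [Fact q.Prime]
    (hH : Nat.card H = q) {x : G} (hxH : x ∈ H) (hx1 : x ≠ 1) (hxL : x ∈ L) : H ≤ L := by
  intro y hy
  have h1 : (⟨y, hy⟩ : ↥H) ∈ Subgroup.zpowers (⟨x, hxH⟩ : ↥H) :=
    mem_zpowers_of_prime_card hH (fun h => hx1 (congrArg Subtype.val h))
  obtain ⟨k, hk⟩ := Subgroup.mem_zpowers_iff.mp h1
  have h2 : x ^ k = y := by
    have := congrArg Subtype.val hk
    simpa using this
  rw [← h2]
  exact L.zpow_mem hxL k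

/-- **Invariant complement.** `M = S K`, `K` acting on `S` with all `C_S(k) = Ks` (`k ≠ 1`) of
prime order `q`, `Q` a normal `q`-subgroup of `M` inside `S` containing `Ks`, `D` a `K`-invariant
complement of `Q` in `S` of order prime to `q`, and `S` not nilpotent. -/
theorem primeAction_inv (M S K Q D : Subgroup G) (q : ℕ) [Fact q.Prime]
    (hSM : S ≤ M) (hKM : K ≤ M)
    (hSK : ∀ m ∈ M, ∃ s ∈ S, ∃ k ∈ K, m = s * k)
    (hcop : (Nat.card S).Coprime (Nat.card K)) (hK1 : K ≠ ⊥)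
    (hq : Nat.card ↥(S ⊓ Subgroup.centralizer (K : Set G)) = q)
    (hpr : ∀ k ∈ K, k ≠ 1 →
      S ⊓ Subgroup.centralizer ({k} : Set G) = S ⊓ Subgroup.centralizer (K : Set G))
    (hnil : ¬ Group.IsNilpotent S)
    (hMQ : M ≤ Subgroup.normalizer (Q : Set G)) (hQq : IsPGroup q Q)
    (hKsQ : S ⊓ Subgroup.centralizer (K : Set G) ≤ Q)
    (hD : Cfsg.IsComplIn Q D S) (hqD : ¬ q ∣ Nat.card D)
    (hKD : K ≤ Subgroup.normalizer (D : Set G)) :
    Group.IsNilpotent D ∧ (Nat.card K).Prime ∧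
      M ≤ Subgroup.normalizer ((Q ⊓ Subgroup.centralizer (D : Set G) : Subgroup G) : Set G) ∧
      Q ⊓ Subgroup.centralizer (D : Set G) < Q ∧
      Nat.card Q = Nat.card ↥(Q ⊓ Subgroup.centralizer (D : Set G)) * q ^ Nat.card K ∧
      (∀ a ∈ Q, ∀ b ∈ Q, a ^ q ∈ Q ⊓ Subgroup.centralizer (D : Set G) ∧
        a * b * a⁻¹ * b⁻¹ ∈ Q ⊓ Subgroup.centralizer (D : Set G)) ∧
      ∀ N : Subgroup G, Q ⊓ Subgroup.centralizer (D : Set G) < N → N < Q →
        ¬ M ≤ Subgroup.normalizer (N : Set G) := by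
  classical
  have hqp : q.Prime := Fact.out
  obtain ⟨hQS, hDS, hQD, hprod⟩ := hD
  obtain ⟨Ks, hKsdef⟩ : ∃ Ks : Subgroup G, Ks = S ⊓ Subgroup.centralizer (K : Set G) := ⟨_, rfl⟩
  rw [← hKsdef] at hq hKsQ
  have hpr' : ∀ k ∈ K, k ≠ 1 → S ⊓ Subgroup.centralizer ({k} : Set G) = Ks := by
    intro k hk hk1
    rw [hKsdef]
    exact hpr k hk hk1
  have hKsS : Ks ≤ S := by rw [hKsdef]; exact inf_le_left
  have hKsK : Ks ≤ Subgroup.centralizer (K : Set G) := by rw [hKsdef]; exact inf_le_right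
  -- `q ∤ |K|`
  have hqS : q ∣ Nat.card S := by rw [← hq]; exact Subgroup.card_dvd_of_le hKsS
  have hqK : ¬ q ∣ Nat.card K := fun h =>
    hqp.one_lt.ne' (Nat.eq_one_of_dvd_coprimes hcop hqS h)
  have hDM : D ≤ M := hDS.trans hSM
  have hQM : Q ≤ M := hQS.trans hSM
  -- the Frobenius group `D K`
  have hUn : ∀ e ∈ K, ∀ u ∈ D, e * u * e⁻¹ ∈ D :=
    fun e he u hu => (Subgroup.mem_normalizer_iff.mp (hKD he) u).mp hu
  have hfpf : ∀ e ∈ K, e ≠ 1 → ∀ u ∈ D, e * u = u * e → u = 1 := by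
    intro e he he1 u hu heu
    have h1 : u ∈ S ⊓ Subgroup.centralizer ({e} : Set G) := by
      refine Subgroup.mem_inf.mpr ⟨hDS hu, ?_⟩
      rw [Subgroup.mem_centralizer_iff]
      intro h hh
      rw [Set.mem_singleton_iff] at hh
      rw [hh]
      exact heu
    rw [hpr' e he he1] at h1
    have h2 : u ∈ Q ⊓ D := Subgroup.mem_inf.mpr ⟨hKsQ h1, hu⟩
    rw [hQD] at h2
    exact Subgroup.mem_bot.mp h2
  have hDnil : Group.IsNilpotent D :=
    Cfsg.Agent.Lib.Helper97.FrobFormula.nilpotent_of_fpf D K hK1 hUn hfpf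
  have hcopDK : ∀ K₀ : Subgroup G, K₀ ≤ K → (Nat.card K₀).Coprime (Nat.card D) := by
    intro K₀ hK₀
    exact Nat.Coprime.coprime_dvd_left (Subgroup.card_dvd_of_le hK₀)
      (Nat.Coprime.coprime_dvd_right (Subgroup.card_dvd_of_le hDS) hcop.symm)
  -- the fixed point formula
  have hform : ∀ K₀ : Subgroup G, K₀ ≤ K → ∀ L : Subgroup G, L ≤ Q →
      D ≤ Subgroup.normalizer (L : Set G) → K₀ ≤ Subgroup.normalizer (L : Set G) →
      Nat.card ↥(L ⊓ Subgroup.centralizer ((D ⊔ K₀ : Subgroup G) : Set G)) ^ Nat.card K₀ *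
          Nat.card L =
        Nat.card ↥(L ⊓ Subgroup.centralizer (K₀ : Set G)) ^ Nat.card K₀ *
          Nat.card ↥(L ⊓ Subgroup.centralizer (D : Set G)) := by
    intro K₀ hK₀ L hLQ hDL hK₀L
    have hLq : IsPGroup q L := hQq.to_le hLQ
    have hLnil : Group.IsNilpotent L := hLq.isNilpotent
    have hsolvL : Group.IsSolvable L := inferInstance
    have hcopL : Nat.Coprime (Nat.card L) (Nat.card ↥(D ⊔ K₀)) := by
      rw [Cfsg.Agent.Lib.Helper1.card_sup_of_normalizer_coprime D K₀ (hK₀.trans hKD)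
        (hcopDK K₀ hK₀)]
      obtain ⟨n, hn⟩ := IsPGroup.iff_card.mp hLq
      rw [hn]
      apply Nat.Coprime.pow_left
      exact Nat.Coprime.mul_right ((Nat.Prime.coprime_iff_not_dvd hqp).mpr hqD)
        ((Nat.Prime.coprime_iff_not_dvd hqp).mpr
          (fun h => hqK (h.trans (Subgroup.card_dvd_of_le hK₀))))
    exact Cfsg.Agent.Lib.Helper97.FrobFormula.frob_formula D K₀ L
      (fun e he => hUn e (hK₀ he)) (fun e he => hfpf e (hK₀ he)) hDnil (sup_le hDL hK₀L)
      hsolvL hcopL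
  have hDQ : D ≤ Subgroup.normalizer (Q : Set G) := hDM.trans hMQ
  have hKQ : K ≤ Subgroup.normalizer (Q : Set G) := hKM.trans hMQ
  have hcenK : ∀ K₀ : Subgroup G, K₀ ≤ K →
      Subgroup.centralizer ((D ⊔ K₀ : Subgroup G) : Set G) ≤
        Subgroup.centralizer (K₀ : Set G) ⊓ Subgroup.centralizer (D : Set G) := by
    intro K₀ _
    exact le_inf (Subgroup.centralizer_le (le_sup_right : K₀ ≤ D ⊔ K₀))
      (Subgroup.centralizer_le (le_sup_left : D ≤ D ⊔ K₀))
  -- `Q ∩ C(K) = Ks`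
  have hQK : Q ⊓ Subgroup.centralizer (K : Set G) = Ks := by
    apply le_antisymm
    · rw [hKsdef]
      exact inf_le_inf_right _ hQS
    · exact le_inf hKsQ hKsK
  have hqpos : 0 < q ^ Nat.card K := pow_pos hqp.pos _
  -- `Ks ∩ C(D) = 1`
  have hstar : Ks ⊓ Subgroup.centralizer (D : Set G) = ⊥ := by
    rw [eq_bot_iff]
    intro x hx
    rw [Subgroup.mem_bot]
    by_contra hx1
    have hKsD : Ks ≤ Subgroup.centralizer (D : Set G) :=
      le_of_prime_card_of_mem hq (Subgroup.mem_inf.mp hx).1 hx1 (Subgroup.mem_inf.mp hx).2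
    have hKsDK : Ks ≤ Subgroup.centralizer ((D ⊔ K : Subgroup G) : Set G) := by
      rw [Subgroup.le_centralizer_iff]
      exact sup_le (Subgroup.le_centralizer_iff.mp hKsD) (Subgroup.le_centralizer_iff.mp hKsK)
    have h1 : Q ⊓ Subgroup.centralizer ((D ⊔ K : Subgroup G) : Set G) = Ks := by
      apply le_antisymm
      · rw [← hQK]
        exact inf_le_inf_left _ ((hcenK K le_rfl).trans inf_le_left)
      · exact le_inf hKsQ hKsDK
    have h2 := hform K le_rfl Q le_rfl hDQ hKQ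
    rw [h1, hQK, hq] at h2
    have h3 : Nat.card Q = Nat.card ↥(Q ⊓ Subgroup.centralizer (D : Set G)) :=
      Nat.eq_of_mul_eq_mul_left hqpos h2
    have h4 : Q ⊓ Subgroup.centralizer (D : Set G) = Q :=
      Subgroup.eq_of_le_of_card_ge inf_le_left h3.le
    have h5 : Q ≤ Subgroup.centralizer (D : Set G) := by
      rw [← h4]
      exact inf_le_right
    apply hnil
    apply isNilpotent_of_commuting_prod hQq.isNilpotent hDnil _ hprod hQS hDS
    intro a ha b hb
    exact (Subgroup.mem_centralizer_iff.mp (h5 ha) b hb).symm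
  have hbotDK : ∀ K₀ : Subgroup G, K₀ ≤ K → ∀ L : Subgroup G, L ≤ Q →
      L ⊓ Subgroup.centralizer (K₀ : Set G) ≤ Ks →
      Nat.card ↥(L ⊓ Subgroup.centralizer ((D ⊔ K₀ : Subgroup G) : Set G)) = 1 := by
    intro K₀ hK₀ L hLQ hLK
    rw [Subgroup.card_eq_one, eq_bot_iff, ← hstar]
    intro x hx
    have hx2 := hcenK K₀ hK₀ (Subgroup.mem_inf.mp hx).2
    exact Subgroup.mem_inf.mpr
      ⟨hLK (Subgroup.mem_inf.mpr ⟨(Subgroup.mem_inf.mp hx).1, (Subgroup.mem_inf.mp hx2).1⟩),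
        (Subgroup.mem_inf.mp hx2).2⟩
  -- the dichotomy for invariant subgroups of `Q`
  have hdich : ∀ L : Subgroup G, L ≤ Q → D ≤ Subgroup.normalizer (L : Set G) →
      K ≤ Subgroup.normalizer (L : Set G) →
      L ≤ Subgroup.centralizer (D : Set G) ∨
        Nat.card L = q ^ Nat.card K * Nat.card ↥(L ⊓ Subgroup.centralizer (D : Set G)) := by
    intro L hLQ hDL hKL
    have hLK : L ⊓ Subgroup.centralizer (K : Set G) ≤ Ks := by
      rw [← hQK]
      exact inf_le_inf_right _ hLQ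
    have h2 := hform K le_rfl L hLQ hDL hKL
    rw [hbotDK K le_rfl L hLQ hLK, one_pow, one_mul] at h2
    have h3 : Nat.card ↥(L ⊓ Subgroup.centralizer (K : Set G)) ∣ q := by
      rw [← hq]
      exact Subgroup.card_dvd_of_le hLK
    rcases (Nat.dvd_prime hqp).mp h3 with h4 | h4
    · left
      rw [h4, one_pow, one_mul] at h2
      have h5 : L ⊓ Subgroup.centralizer (D : Set G) = L :=
        Subgroup.eq_of_le_of_card_ge inf_le_left h2.le
      rw [← h5]
      exact inf_le_right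
    · right
      rw [h4] at h2
      exact h2
  obtain ⟨Q₀, hQ₀def⟩ : ∃ Q₀ : Subgroup G, Q₀ = Q ⊓ Subgroup.centralizer (D : Set G) :=
    ⟨_, rfl⟩
  rw [← hQ₀def]
  have hQ₀Q : Q₀ ≤ Q := by rw [hQ₀def]; exact inf_le_left
  have hQ₀D : Q₀ ≤ Subgroup.centralizer (D : Set G) := by rw [hQ₀def]; exact inf_le_right
  -- the order of `Q`
  have hcardQ : Nat.card Q = Nat.card Q₀ * q ^ Nat.card K := by
    have h2 := hform K le_rfl Q le_rfl hDQ hKQ
    rw [hbotDK K le_rfl Q le_rfl hQK.le, one_pow, one_mul, hQK, hq, ← hQ₀def] at h2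
    rw [h2, mul_comm]
  have hK1' : 1 < Nat.card K := by
    have hnon : Nontrivial ↥K := (Subgroup.nontrivial_iff_ne_bot K).mpr hK1
    exact Finite.one_lt_card
  have hqK1 : 1 < q ^ Nat.card K := Nat.one_lt_pow (by omega) hqp.one_lt
  have hQ₀lt : Q₀ < Q := by
    refine lt_of_le_of_ne hQ₀Q ?_
    intro h
    rw [h] at hcardQ
    have hpos : 0 < Nat.card Q := Nat.card_pos
    nlinarith
  -- `|K|` is prime
  have hKprime : (Nat.card K).Prime := by
    obtain ⟨r, hr, hrdvd⟩ := Nat.exists_prime_and_dvd hK1'.ne'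
    have hrF : Fact r.Prime := ⟨hr⟩
    obtain ⟨e, he⟩ := exists_prime_orderOf_dvd_card' (G := ↥K) r hrdvd
    have hord : orderOf (e : G) = r := by
      rw [← he]
      exact Subgroup.orderOf_coe e
    have he1 : (e : G) ≠ 1 := by
      intro h
      rw [h, orderOf_one] at hord
      exact hr.one_lt.ne hord
    obtain ⟨K₁, hK₁def⟩ : ∃ K₁ : Subgroup G, K₁ = Subgroup.zpowers (e : G) := ⟨_, rfl⟩
    have hK₁K : K₁ ≤ K := by rw [hK₁def]; exact Subgroup.zpowers_le.mpr e.2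
    have hcardK₁ : Nat.card K₁ = r := by rw [hK₁def, Nat.card_zpowers, hord]
    have hQK₁ : Q ⊓ Subgroup.centralizer (K₁ : Set G) = Ks := by
      apply le_antisymm
      · rw [← hpr' (e : G) e.2 he1]
        apply inf_le_inf hQS
        apply Subgroup.centralizer_le
        rw [hK₁def]
        exact Set.singleton_subset_iff.mpr (Subgroup.mem_zpowers _)
      · exact le_inf hKsQ (hKsK.trans (Subgroup.centralizer_le hK₁K))
    have h2 := hform K₁ hK₁K Q le_rfl hDQ (hK₁K.trans hKQ)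
    rw [hbotDK K₁ hK₁K Q le_rfl hQK₁.le, one_pow, one_mul, hQK₁, hq, ← hQ₀def, hcardK₁,
      hcardQ, mul_comm] at h2
    have hpos : 0 < Nat.card Q₀ := Nat.card_pos
    have h3 : q ^ Nat.card K = q ^ r := Nat.eq_of_mul_eq_mul_right hpos h2
    have h4 : Nat.card K = r := Nat.pow_right_injective hqp.two_le h3
    rw [h4]
    exact hr
  -- the Frattini subgroup of `Q` is centralized by `D`
  obtain ⟨Φ, hΦdef⟩ : ∃ Φ : Subgroup G, Φ = (frattini ↥Q).map Q.subtype := ⟨_, rfl⟩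
  have hΦQ : Φ ≤ Q := by rw [hΦdef]; exact Subgroup.map_subtype_le _
  have hΦN : Subgroup.normalizer (Q : Set G) ≤ Subgroup.normalizer (Φ : Set G) := by
    rw [hΦdef]
    exact frat_normalizer Q
  have hDQ₀ : D ≤ Subgroup.normalizer (Q₀ : Set G) := by
    intro d hd
    rw [hQ₀def]
    exact mem_normalizer_inf (hDQ hd) (mem_normalizer_centralizer (Subgroup.le_normalizer hd))
  have hKQ₀ : K ≤ Subgroup.normalizer (Q₀ : Set G) := by
    intro k hk
    rw [hQ₀def]
    exact mem_normalizer_inf (hKQ hk) (mem_normalizer_centralizer (hKD hk))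
  have hΦD : Φ ≤ Subgroup.centralizer (D : Set G) := by
    have hL : Q₀ ⊔ Φ ≤ Q := sup_le hQ₀Q hΦQ
    rcases hdich (Q₀ ⊔ Φ) hL (fun d hd => mem_normalizer_sup (hDQ₀ hd) (hΦN (hDQ hd)))
      (fun k hk => mem_normalizer_sup (hKQ₀ hk) (hΦN (hKQ hk))) with h | h
    · exact le_sup_right.trans h
    · exfalso
      have h1 : (Q₀ ⊔ Φ) ⊓ Subgroup.centralizer (D : Set G) = Q₀ := by
        apply le_antisymm
        · have h0 : (Q₀ ⊔ Φ) ⊓ Subgroup.centralizer (D : Set G) ≤
              Q ⊓ Subgroup.centralizer (D : Set G) := inf_le_inf_right _ hL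
          rwa [← hQ₀def] at h0
        · exact le_inf le_sup_left hQ₀D
      rw [h1] at h
      have h2 : Nat.card ↥(Q₀ ⊔ Φ) = Nat.card Q := by rw [h, hcardQ, mul_comm]
      have h3 : Q₀ ⊔ Φ = Q := Subgroup.eq_of_le_of_card_ge hL h2.ge
      have h4 : Q₀ = Q := by
        apply frat_nongen Q Q₀ hQ₀Q
        rw [← hΦdef, h3]
      exact hQ₀lt.ne h4
  have hΦQ₀ : Φ ≤ Q₀ := by
    rw [hQ₀def]
    exact le_inf hΦQ hΦD
  have hpow : ∀ a ∈ Q, a ^ q ∈ Φ := by
    intro a ha
    have h1 := Cfsg.Agent.Lib.Helper87.pow_p_mem_frattini hQq (⟨a, ha⟩ : ↥Q)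
    rw [hΦdef]
    exact ⟨_, h1, by simp⟩
  have hcomm : ∀ a ∈ Q, ∀ b ∈ Q, a * b * a⁻¹ * b⁻¹ ∈ Φ := by
    intro a ha b hb
    have h1 := Cfsg.Agent.Lib.Helper87.comm_mem_frattini hQq (⟨a, ha⟩ : ↥Q) ⟨b, hb⟩
    rw [hΦdef]
    exact ⟨_, h1, by simp⟩
  -- `Q₀` is normal in `M`
  have hQQ₀ : Q ≤ Subgroup.normalizer (Q₀ : Set G) := by
    intro a ha
    apply Cfsg.Agent.Lib.Helper54.mem_normalizer_of_conj_mem
    intro x hx
    have h1 : a * x * a⁻¹ = (a * x * a⁻¹ * x⁻¹) * x := by group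
    rw [h1]
    exact Q₀.mul_mem (hΦQ₀ (hcomm a ha x (hQ₀Q hx))) hx
  have hMQ₀ : M ≤ Subgroup.normalizer (Q₀ : Set G) := by
    intro m hm
    obtain ⟨s, hs, k, hk, rfl⟩ := hSK m hm
    obtain ⟨a, ha, b, hb, rfl⟩ := hprod s hs
    exact Subgroup.mul_mem _ (Subgroup.mul_mem _ (hQQ₀ ha) (hDQ₀ hb)) (hKQ₀ hk)
  refine ⟨hDnil, hKprime, hMQ₀, hQ₀lt, hcardQ, ?_, ?_⟩
  · intro a ha b hb
    exact ⟨hΦQ₀ (hpow a ha), hΦQ₀ (hcomm a ha b hb)⟩
  · intro N hN1 hN2 hMN
    rcases hdich N hN2.le (hDM.trans hMN) (hKM.trans hMN) with h | h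
    · have h1 : N ≤ Q₀ := by
        rw [hQ₀def]
        exact le_inf hN2.le h
      exact (lt_of_lt_of_le hN1 h1).ne rfl
    · have h1 : N ⊓ Subgroup.centralizer (D : Set G) = Q₀ := by
        apply le_antisymm
        · rw [hQ₀def]
          exact inf_le_inf_right _ hN2.le
        · exact le_inf hN1.le hQ₀D
      rw [h1] at h
      have h2 : Nat.card N = Nat.card Q := by rw [h, hcardQ, mul_comm]
      exact hN2.ne (Subgroup.eq_of_le_of_card_ge hN2.le h2.ge)

end Cfsg.Agent.Lib.Helper54.BG
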