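import Mathlib
import Cfsg.Prelude.Def_OddOrderLocal
import Cfsg.Statements.S1403
import Cfsg.Statements.S1405
import Cfsg.Statements.S1407
import Cfsg.Statements.S1414
import Cfsg.Agent.Lib.Helper54.BG.AsymBasic
import Cfsg.Agent.Lib.Helper2.QdR1
import Cfsg.Agent.Lib.Helper13.BG.S1427A
import Cfsg.Agent.Lib.Helper29.BG.S1428K0
import Cfsg.Agent.Lib.Helper68.BG.FrobAct
import Cfsg.Agent.Lib.Helper21.BG.S1431InvSylow
import Cfsg.Agent.Lib.Helper74.BG.Tools
import Cfsg.Agent.Lib.Helper24.BG.S1431Util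
import Cfsg.Agent.Lib.Helper27.BG.SigmaBasic
import Cfsg.Agent.Lib.Helper78.BG.S1405Core

/-!
# Bender–Glauberman Lemma 13.4/13.5 ("Lemma L4" of helper34's note 2127), helper54

Setting: `M`, `M*` distinct maximal subgroups, `p ∈ τ₁(M)`, `P ≤ M` of order `p`, `Q ≠ 1` a
`P`-invariant Sylow `q`-subgroup of `M` with `C_Q(P) = 1` and `N(Q) ≤ M*`.  Then `Q ≤ M'`,
`q ∉ α(M)`, `α(M) = β(M)`, `M = M_α N_M(Q)`, `M_α ≠ 1`, `C_{M_α}(P)` is a nontrivial Z-group and
`C_{M_α}(QP) = 1`.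
-/

set_option autoImplicit false

namespace Cfsg.Agent.Lib.Helper54.BG

open Cfsg Cfsg.Agent.Lib.Helper46 Cfsg.Agent.Lib.Helper35.BG
open scoped commutatorElement

universe u

variable {G : Type u} [Group G] [Finite G]

/-- A coatom containing a Sylow `s`-subgroup of `M`, `s ∈ α(M)`, is `M`. -/
theorem eq_of_alpha_sylow_le (hG : IsMinSimpleOddOrder G)
    (h1403 : type_of% (@Cfsg.CfsgFrozen.S1403 G _ _ hG))
    {M L S : Subgroup G} (hM : IsCoatom M) (hL : IsCoatom L) {s : ℕ} (hs : s ∈ alpha M)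
    (hS : IsSylowIn s S M) (hSL : S ≤ L) : L = M := by
  have : Fact s.Prime := ⟨hs.1⟩
  have hsp : s.Prime := hs.1
  have hrank : ¬ PRankLE s 2 S := fun h => hs.2 (pRankLE_of_isSylowIn hS h)
  have hStop : S ≠ ⊤ := fun h => hM.1 (top_le_iff.mp (h ▸ hS.1))
  obtain ⟨L0, -, hu⟩ := h1403 S hStop
    (not_rankLE_of_not_pRankLE (fun h => hrank (pRankLE_mono hsp.pos (by norm_num) h)))
    (Or.inl (not_rankLE_of_not_pRankLE hrank))
  exact (hu L ⟨hL, hSL⟩).trans (hu M ⟨hM, hS.1⟩).symm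

/-- A Sylow subgroup of `N ≤ M` is a Sylow subgroup of `M` when the index is prime to `s`. -/
theorem sylIn_of_le_of_not_dvd {s : ℕ} [Fact s.Prime] {S N M : Subgroup G}
    (hS : IsSylowIn s S N) (hNM : N ≤ M) (h : ¬ s ∣ N.relIndex M) : IsSylowIn s S M := by
  have hs : s.Prime := Fact.out
  apply Cfsg.Agent.Lib.Helper24.BG31.sylIn_of_not_dvd_relIndex (hS.1.trans hNM) (sylIn_isPGroup hS)
  rw [← Subgroup.relIndex_mul_relIndex S _ M hS.1 hNM]
  intro h'
  rcases (Nat.Prime.dvd_mul hs).mp h' with h' | h'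
  · exact Cfsg.Agent.Lib.Helper24.BG31.sylIn_not_dvd_relIndex hS h'
  · exact h h'

omit [Finite G] in
theorem piCoreOf_mono54 {π π' : Set ℕ} (h : π ⊆ π') (X : Subgroup G) :
    piCoreOf π X ≤ piCoreOf π' X := by
  apply Subgroup.map_mono
  apply sSup_le_sSup
  intro N hN
  exact ⟨hN.1, fun p hp hd => h (hN.2 p hp hd)⟩

omit [Finite G] in
theorem betaCore_le_alphaCore (M : Subgroup G) : piCoreOf (beta M) M ≤ alphaCore M :=
  piCoreOf_mono54 (fun _ hp => hp.1) M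

omit [Finite G] in
theorem alphaCore_le54 (M : Subgroup G) : alphaCore M ≤ M :=
  Cfsg.Agent.Lib.Helper27.BG.piCoreOf_le (alpha M) M

omit [Finite G] in
theorem le_normalizer_alphaCore (M : Subgroup G) :
    M ≤ Subgroup.normalizer ((alphaCore M : Subgroup G) : Set G) :=
  Cfsg.Agent.Lib.Helper27.BG.le_normalizer_piCoreOf (alpha M) M

omit [Finite G] in
/-- An element commuting with `z` normalizes `zpowers z`. -/
theorem mem_normalizer_zpowers_of_commute {a z : G} (h : a * z = z * a) :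
    a ∈ Subgroup.normalizer ((Subgroup.zpowers z : Subgroup G) : Set G) := by
  apply centralizer_le_normalizer'
  rw [Subgroup.mem_centralizer_iff]
  intro y hy
  obtain ⟨k, rfl⟩ := Subgroup.mem_zpowers_iff.mp hy
  have hc : Commute z a := h.symm
  exact (hc.zpow_left k).eq

/-- **Lemma L4** (Bender–Glauberman 13.4/13.5). -/
theorem lemL4 (hG : IsMinSimpleOddOrder G)
    (h1403 : type_of% (@Cfsg.CfsgFrozen.S1403 G _ _ hG))
    (h1405 : type_of% (@Cfsg.CfsgFrozen.S1405 G _ _ hG))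
    (h1407 : type_of% (@Cfsg.CfsgFrozen.S1407 G _ _ hG))
    (h1414 : type_of% (@Cfsg.CfsgFrozen.S1414 G _ _ hG))
    {M Ms P Q : Subgroup G} {p q : ℕ}
    (hM : IsCoatom M) (hMs : IsCoatom Ms) (hne : Ms ≠ M)
    (hp : p ∈ tau1 M) (hPM : P ≤ M) (hP : Nat.card P = p)
    (hq : q.Prime) (hQ : IsSylowIn q Q M)
    (hPQ : P ≤ Subgroup.normalizer (Q : Set G))
    (hCQ : Q ⊓ Subgroup.centralizer (P : Set G) = ⊥)
    (hNQ : Subgroup.normalizer (Q : Set G) ≤ Ms) :
    Q ≤ ⁅M, M⁆ ∧ q ∉ alpha M ∧ p ∉ alpha M ∧ (∀ s ∈ alpha M, s ∈ beta M) ∧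
    (∀ m ∈ M, ∃ b ∈ alphaCore M, ∃ n ∈ M ⊓ Subgroup.normalizer (Q : Set G), m = b * n) ∧
    alphaCore M ≠ ⊥ ∧
    IsZGroup ↥(alphaCore M ⊓ Subgroup.centralizer (P : Set G)) ∧
    alphaCore M ⊓ Subgroup.centralizer (P : Set G) ≠ ⊥ ∧
    alphaCore M ⊓ Subgroup.centralizer (Q : Set G) ⊓ Subgroup.centralizer (P : Set G) = ⊥ := by
  classical
  have hpp : p.Prime := hp.1
  have : Fact p.Prime := ⟨hpp⟩
  have : Fact q.Prime := ⟨hq⟩
  obtain ⟨hαHall, -, -, -, -⟩ := h1405 M hM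
  obtain ⟨hβHall, -, -, -, -⟩ := h1414 M hM
  have hQM : Q ≤ M := hQ.1
  have hQMs : Q ≤ Ms := Subgroup.le_normalizer.trans hNQ
  have hQq : IsPGroup q Q := sylIn_isPGroup hQ
  obtain ⟨-, hpσ, hpM, -, hprk⟩ := hp
  have hpα : p ∉ alpha M := fun h =>
    hpσ (Cfsg.Agent.Lib.Helper78.BG.alpha_subset_sigma hG h1403 M hM h)
  -- a generator of `P`
  obtain ⟨b, hbP, hb1⟩ := exists_gen_of_card_prime hpp hP
  have hbM : b ∈ M := hPM hbP
  have hbQ : b ∈ Subgroup.normalizer (Q : Set G) := hPQ hbP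
  have hfix : ∀ a ∈ Q, b * a = a * b → a = 1 := by
    intro a ha hab
    have h1 : a ∈ Q ⊓ Subgroup.centralizer (P : Set G) :=
      ⟨ha, mem_centralizer_of_card_prime hpp hP hbP hb1 hab⟩
    rw [hCQ] at h1
    exact Subgroup.mem_bot.mp h1
  -- (i) `Q ≤ M'`
  have hQD : Q ≤ ⁅M, M⁆ := le_commutator_of_fpf hQM hbM hbQ hfix
  -- (ii) `q ∉ α(M)`
  have hqα : q ∉ alpha M := fun h => hne (eq_of_alpha_sylow_le hG h1403 hM hMs h hQ hQMs)
  have hqβ : q ∉ beta M := fun h => hqα h.1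
  -- (iii) `M = M_β N_M(Q)`
  have hQD' : IsSylowIn q Q ⁅M, M⁆ :=
    sylIn_mono hQ hQD (Cfsg.Agent.Lib.Helper29.BG.commutator_self_le M)
  obtain ⟨-, hdec0⟩ :=
    Cfsg.Agent.Lib.Helper29.BG.lemK_sylow_commutator hG h1414 M hM q hqβ Q hQD'
  have hdecβ : ∀ m ∈ M, ∃ b' ∈ piCoreOf (beta M) M,
      ∃ n ∈ M ⊓ Subgroup.normalizer (Q : Set G), m = b' * n := by
    intro m hm
    obtain ⟨b', hb', s, hs, h⟩ := hdec0 m hm
    have hb'M : b' ∈ M := Cfsg.Agent.Lib.Helper27.BG.piCoreOf_le (beta M) M hb'.2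
    have hsM : s ∈ M := hQM hs
    refine ⟨b', hb'.2, s * ((b' * s)⁻¹ * m),
      ⟨M.mul_mem hsM (M.mul_mem (M.inv_mem (M.mul_mem hb'M hsM)) hm),
        Subgroup.mul_mem _ (Subgroup.le_normalizer hs) h⟩, ?_⟩
    group
  -- (iv) `M_β ≠ 1`
  have hβ1 : piCoreOf (beta M) M ≠ ⊥ := by
    intro h0
    apply hne
    have hMN : M ≤ Subgroup.normalizer (Q : Set G) := by
      intro m hm
      obtain ⟨b', hb', n, hn, rfl⟩ := hdecβ m hm
      rw [h0, Subgroup.mem_bot] at hb'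
      rw [hb', one_mul]; exact hn.2
    exact (hM.le_iff.mp (hMN.trans hNQ)).resolve_left hMs.1
  have hα1 : alphaCore M ≠ ⊥ := by
    intro h0
    apply hβ1
    rw [eq_bot_iff, ← h0]
    exact betaCore_le_alphaCore M
  -- (v) `α(M) ⊆ β(M)`
  have hαβ : ∀ s ∈ alpha M, s ∈ beta M := by
    intro s hs
    by_contra hsβ
    have : Fact s.Prime := ⟨hs.1⟩
    have hdvd : (M ⊓ Subgroup.normalizer (Q : Set G)).relIndex M ∣
        Nat.card (piCoreOf (beta M) M) :=
      Cfsg.Agent.Lib.Helper74.BG.relIndex_dvd_card_of_forall_mul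
        (Cfsg.Agent.Lib.Helper27.BG.piCoreOf_le (beta M) M)
        (Cfsg.Agent.Lib.Helper27.BG.le_normalizer_piCoreOf (beta M) M) hdecβ
    have hnd : ¬ s ∣ (M ⊓ Subgroup.normalizer (Q : Set G)).relIndex M := fun h =>
      hsβ (hβHall.2.1 s hs.1 (h.trans hdvd))
    obtain ⟨S, hS⟩ :=
      Cfsg.Agent.Lib.Helper13.BG.exists_sylIn s (M ⊓ Subgroup.normalizer (Q : Set G))
    have hSM : IsSylowIn s S M := sylIn_of_le_of_not_dvd hS inf_le_left hnd
    exact hne (eq_of_alpha_sylow_le hG h1403 hM hMs hs hSM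
      ((hS.1.trans inf_le_right).trans hNQ))
  have hdecα : ∀ m ∈ M, ∃ b' ∈ alphaCore M,
      ∃ n ∈ M ⊓ Subgroup.normalizer (Q : Set G), m = b' * n := by
    intro m hm
    obtain ⟨b', hb', n, hn, rfl⟩ := hdecβ m hm
    exact ⟨b', betaCore_le_alphaCore M hb', n, hn, rfl⟩
  -- (vi) `C_{M_α}(P)` is a Z-group
  have hZ : IsZGroup ↥(alphaCore M ⊓ Subgroup.centralizer (P : Set G)) := by
    have hPp : IsPGroup p P := IsPGroup.of_card (n := 1) (by rw [hP, pow_one])
    have hP' : IsPGroup p (P.subgroupOf M) :=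
      hPp.comap_of_injective M.subtype M.subtype_injective
    obtain ⟨P₀, hP₀⟩ := hP'.exists_le_sylow
    obtain ⟨x, hx, hxo, hxZ, -⟩ := h1407 M hM hα1 p hpM hpσ P₀
    obtain ⟨x', ⟨z, hz, rfl⟩, rfl⟩ := hx
    -- `x` commutes with `P`
    have hcomm : ∀ u ∈ P, u * (M.subtype ((P₀ : Subgroup M).subtype z)) =
        (M.subtype ((P₀ : Subgroup M).subtype z)) * u := by
      intro u hu
      have hu' : (⟨u, hPM hu⟩ : M) ∈ (P₀ : Subgroup M) := hP₀ (Subgroup.mem_subgroupOf.mpr hu)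
      have h1 := Subgroup.mem_center_iff.mp hz ⟨⟨u, hPM hu⟩, hu'⟩
      have h2 := congrArg (fun t : ↥(P₀ : Subgroup M) => ((t : M) : G)) h1
      simpa using h2
    set x : G := M.subtype ((P₀ : Subgroup M).subtype z) with hxdef
    have hxM : x ∈ M := (((P₀ : Subgroup M).subtype z) : M).2
    have hx1 : x ≠ 1 := by
      intro h
      rw [h, orderOf_one] at hxo
      exact hpp.one_lt.ne hxo
    have hxp : x ^ p = 1 := by rw [← hxo]; exact pow_orderOf_eq_one x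
    have hxP : x ∈ P := by
      by_contra hxP
      obtain ⟨hc, he⟩ := comm_exp_of_card_prime hpp hP
      obtain ⟨hc2, he2⟩ := Cfsg.Agent.Lib.Helper2.QdR.ea_sup_zpowers P hc he x hxp hcomm
      have hle : P ⊔ Subgroup.zpowers x ≤ M :=
        sup_le hPM (by rw [Subgroup.zpowers_le]; exact hxM)
      have h1 := (Cfsg.Agent.Lib.Helper24.pRankLE_subgroup_iff p 1 M).mp hprk _ hle hc2 he2
      have hlt : P < P ⊔ Subgroup.zpowers x := by
        refine lt_of_le_of_ne le_sup_left ?_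
        intro h
        apply hxP
        rw [h]
        exact le_sup_right (a := P) (Subgroup.mem_zpowers x)
      have h2 := card_lt_of_lt hlt
      rw [hP, pow_one] at *
      omega
    have e : Subgroup.centralizer ({x} : Set G) = Subgroup.centralizer (P : Set G) :=
      centralizer_singleton_eq_of_card_prime hpp hP hxP hx1
    rw [e] at hxZ
    exact hxZ
  -- invariant Sylow subgroups of `M_α`
  have hKM : Q ⊔ P ≤ M := sup_le hQM hPM
  have hKcard : Nat.card (Q ⊔ P : Subgroup G) ∣ Nat.card P * Nat.card Q := by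
    rw [sup_comm]
    exact Cfsg.Agent.Lib.Helper27.BG.card_sup_dvd_mul hPQ
  have hKnd : ∀ s : ℕ, s ∈ alpha M → ¬ s ∣ Nat.card (Q ⊔ P : Subgroup G) := by
    intro s hs hd
    have h1 := hd.trans hKcard
    rcases (Nat.Prime.dvd_mul hs.1).mp h1 with h | h
    · rw [hP] at h
      exact hpα (((Nat.prime_dvd_prime_iff_eq hs.1 hpp).mp h) ▸ hs)
    · obtain ⟨k, hk⟩ := IsPGroup.iff_card.mp hQq
      rw [hk] at h
      exact hqα (((Nat.prime_dvd_prime_iff_eq hs.1 hq).mp (hs.1.dvd_of_dvd_pow h)) ▸ hs)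
  have hinv : ∀ (s : ℕ) [Fact s.Prime] (Z0 : Subgroup G), s ∈ alpha M → IsPGroup s Z0 →
      Z0 ≤ alphaCore M → Q ⊔ P ≤ Subgroup.normalizer (Z0 : Set G) →
      ∃ S, IsSylowIn s S (alphaCore M) ∧ Z0 ≤ S ∧ Q ⊔ P ≤ Subgroup.normalizer (S : Set G) := by
    intro s _ Z0 hs hZ0 hZ0α hKZ0
    apply Cfsg.Agent.Lib.Helper21.BG.lemInvSylow (alphaCore M) (Q ⊔ P) Z0
      (hKM.trans (le_normalizer_alphaCore M)) ?_ (hKnd s hs) ?_ hZ0 hZ0α hKZ0
    · apply Nat.Coprime.symm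
      apply Nat.coprime_of_dvd
      intro k hk h1 h2
      exact hKnd k (hαHall.2.1 k hk h2) h1
    · apply isSolvable_of_ne_top hG
      intro h
      exact hM.1 (top_le_iff.mp (h ▸ sup_le (alphaCore_le54 M) hKM))
  -- a `QP`-invariant Sylow subgroup of `M_α` is not centralized by `Q`
  have key : ∀ (s : ℕ) (S : Subgroup G), s ∈ alpha M → IsSylowIn s S (alphaCore M) →
      ¬ Q ≤ Subgroup.centralizer (S : Set G) := by
    intro s S hs hS hcon
    have : Fact s.Prime := ⟨hs.1⟩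
    have hSM : IsSylowIn s S M := sylIn_of_le_of_not_dvd hS hαHall.1 (hαHall.2.2 s hs.1 hs)
    have hSQ : S ≤ Subgroup.centralizer (Q : Set G) := by
      intro y hy
      rw [Subgroup.mem_centralizer_iff]
      intro a ha
      exact ((Subgroup.mem_centralizer_iff.mp (hcon ha)) y hy).symm
    exact hne (eq_of_alpha_sylow_le hG h1403 hM hMs hs hSM
      (hSQ.trans ((centralizer_le_normalizer' Q).trans hNQ)))
  have hQcop : ∀ s : ℕ, s ∈ alpha M → (Nat.card Q).Coprime s := by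
    intro s hs
    obtain ⟨k, hk⟩ := IsPGroup.iff_card.mp hQq
    rw [hk]
    apply Nat.Coprime.pow_left
    exact (Nat.coprime_primes hq hs.1).mpr (fun h => hqα (h ▸ hs))
  have hps : ∀ s : ℕ, s ∈ alpha M → p ≠ s := fun s hs h => hpα (h ▸ hs)
  refine ⟨hQD, hqα, hpα, hαβ, hdecα, hα1, hZ, ?_, ?_⟩
  · -- (vii-a)
    have hcard : Nat.card (alphaCore M) ≠ 1 := fun h => hα1 (Subgroup.card_eq_one.mp h)
    obtain ⟨s, hs, hsd⟩ := Nat.exists_prime_and_dvd hcard
    have hsα : s ∈ alpha M := hαHall.2.1 s hs hsd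
    have : Fact s.Prime := ⟨hs⟩
    obtain ⟨S, hS, -, hKS⟩ := hinv s ⊥ hsα IsPGroup.of_bot bot_le
      (by rw [Subgroup.normalizer_eq_top_iff.mpr (by infer_instance : (⊥ : Subgroup G).Normal)]; exact le_top)
    obtain ⟨u, hu, huQ⟩ := Cfsg.Agent.Lib.Helper68.BG.frob_F0 S Q P (sylIn_isPGroup hS)
      (le_sup_left.trans hKS) (le_sup_right.trans hKS) (hQcop s hsα) hP hpp (hps s hsα) hPQ hCQ
      (key s S hsα hS)
    intro h0
    have hu' : u ∈ alphaCore M ⊓ Subgroup.centralizer (P : Set G) := ⟨hS.1 hu.1, hu.2⟩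
    rw [h0, Subgroup.mem_bot] at hu'
    apply huQ
    intro a _
    rw [hu', mul_one, one_mul]
  · -- (vii-b)
    by_contra hne0
    have hcard : Nat.card ↥(alphaCore M ⊓ Subgroup.centralizer (Q : Set G) ⊓
        Subgroup.centralizer (P : Set G)) ≠ 1 := fun h => hne0 (Subgroup.card_eq_one.mp h)
    obtain ⟨s, hs, hsd⟩ := Nat.exists_prime_and_dvd hcard
    have : Fact s.Prime := ⟨hs⟩
    have hsα : s ∈ alpha M := hαHall.2.1 s hs
      (hsd.trans (Subgroup.card_dvd_of_le (inf_le_left.trans inf_le_left)))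
    obtain ⟨z, hzo⟩ := exists_prime_orderOf_dvd_card' s hsd
    have hzmem := z.2
    have hz1 : (z : G) ≠ 1 := by
      intro h
      have h2 : z = 1 := Subtype.ext h
      rw [h2, orderOf_one] at hzo
      exact hs.one_lt.ne hzo
    have hzo' : orderOf (z : G) = s := by rw [← hzo]; exact (Subgroup.orderOf_coe z)
    have hZ0 : IsPGroup s (Subgroup.zpowers (z : G)) :=
      IsPGroup.of_card (n := 1) (by rw [Nat.card_zpowers, hzo', pow_one])
    have hzQ : ∀ a ∈ Q, a * (z : G) = (z : G) * a := fun a ha =>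
      Subgroup.mem_centralizer_iff.mp hzmem.1.2 a ha
    have hzP : ∀ a ∈ P, a * (z : G) = (z : G) * a := fun a ha =>
      Subgroup.mem_centralizer_iff.mp hzmem.2 a ha
    have hKZ0 : Q ⊔ P ≤ Subgroup.normalizer ((Subgroup.zpowers (z : G) : Subgroup G) : Set G) :=
      sup_le (fun a ha => mem_normalizer_zpowers_of_commute (hzQ a ha))
        (fun a ha => mem_normalizer_zpowers_of_commute (hzP a ha))
    obtain ⟨S, hS, hZ0S, hKS⟩ := hinv s (Subgroup.zpowers (z : G)) hsα hZ0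
      (by rw [Subgroup.zpowers_le]; exact hzmem.1.1) hKZ0
    have hzS : (z : G) ∈ S := hZ0S (Subgroup.mem_zpowers _)
    have hle : S ⊓ Subgroup.centralizer (P : Set G) ≤
        alphaCore M ⊓ Subgroup.centralizer (P : Set G) := inf_le_inf_right _ hS.1
    have hcyc : IsCyclic ↥(S ⊓ Subgroup.centralizer (P : Set G)) := by
      have hp2 : IsPGroup s ↥((S ⊓ Subgroup.centralizer (P : Set G)).subgroupOf
          (alphaCore M ⊓ Subgroup.centralizer (P : Set G))) :=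
        ((sylIn_isPGroup hS).to_le inf_le_left).comap_of_injective _
          (Subgroup.subtype_injective _)
      have hc2 : IsCyclic ↥((S ⊓ Subgroup.centralizer (P : Set G)).subgroupOf
          (alphaCore M ⊓ Subgroup.centralizer (P : Set G))) := hp2.isCyclic_of_isZGroup
      exact isCyclic_of_surjective (Subgroup.subgroupOfEquivOfLe hle)
        (Subgroup.subgroupOfEquivOfLe hle).surjective
    have hfix' : S ⊓ Subgroup.centralizer (Q : Set G) ⊓ Subgroup.centralizer (P : Set G) ≠ ⊥ := by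
      intro h0
      have h1 : (z : G) ∈ S ⊓ Subgroup.centralizer (Q : Set G) ⊓
          Subgroup.centralizer (P : Set G) := ⟨⟨hzS, hzmem.1.2⟩, hzmem.2⟩
      rw [h0, Subgroup.mem_bot] at h1
      exact hz1 h1
    exact key s S hsα hS (Cfsg.Agent.Lib.Helper68.BG.frob_F S Q P (sylIn_isPGroup hS)
      (le_sup_left.trans hKS) (le_sup_right.trans hKS) (hQcop s hsα) hP hpp (hps s hsα) hPQ hCQ
      hcyc hfix')

end Cfsg.Agent.Lib.Helper54.BG
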