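import Mathlib
import Cfsg.Prelude.Def_OddOrderLocal
import Cfsg.Statements.S1350
import Cfsg.Statements.S1403
import Cfsg.Statements.S1404
import Cfsg.Statements.S1405
import Cfsg.Statements.S1407
import Cfsg.Statements.S1408
import Cfsg.Statements.S1414
import Cfsg.Statements.S1423
import Cfsg.Statements.S1428
import Cfsg.Agent.S0022
import Cfsg.Agent.Lib.Helper54.BG.AsymL4
import Cfsg.Agent.Lib.Helper1.Hall
import Cfsg.Agent.Lib.Helper67.BG.HallUtil
import Cfsg.Agent.Lib.Helper76.BG.S1420Core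

/-!
# The asymmetry lemma (Bender–Glauberman 13.8), helper54

`M`, `M*` non-conjugate maximal subgroups, `p ∈ τ₁(M) ∩ τ₁(M*)`, `P ≤ M ∩ M*` of order `p`,
`Q` a `P`-invariant Sylow `q`-subgroup of `M` with `C_Q(P) = 1`, `N(Q) ≤ M*`, and `Q*` a
`P`-invariant Sylow `q*`-subgroup of `M*` with `C_{Q*}(P) = 1`, `N(Q*) ≤ M`: impossible.
Paper proof: helper34's note 2127 (topic S1430).
-/

set_option autoImplicit false

namespace Cfsg.Agent.Lib.Helper54.BG

open Cfsg Cfsg.Agent.Lib.Helper46 Cfsg.Agent.Lib.Helper35.BG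
open scoped commutatorElement

universe u

variable {G : Type u} [Group G] [Finite G]

/-- A nontrivial finite `r`-group has an element of order `r`. -/
theorem exists_orderOf_eq_of_isPGroup {X : Type*} [Group X] [Finite X] {r : ℕ} (hr : r.Prime)
    (hX : IsPGroup r X) [hnt : Nontrivial X] : ∃ w : X, orderOf w = r := by
  have : Fact r.Prime := ⟨hr⟩
  obtain ⟨k, hk⟩ := IsPGroup.iff_card.mp hX
  have hk0 : k ≠ 0 := by
    intro h0
    rw [h0, pow_zero] at hk
    have := Finite.one_lt_card_iff_nontrivial.mpr hnt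
    omega
  exact exists_prime_orderOf_dvd_card' r (hk ▸ dvd_pow_self r hk0)

/-- A nontrivial subgroup contains a subgroup of prime order. -/
theorem exists_prime_card_le {H : Subgroup G} (hH : H ≠ ⊥) :
    ∃ (r : ℕ) (R : Subgroup G), r.Prime ∧ r ∣ Nat.card H ∧ R ≤ H ∧ Nat.card R = r := by
  have hcard : Nat.card H ≠ 1 := fun h => hH (Subgroup.card_eq_one.mp h)
  obtain ⟨r, hr, hrd⟩ := Nat.exists_prime_and_dvd hcard
  have : Fact r.Prime := ⟨hr⟩
  obtain ⟨z, hzo⟩ := exists_prime_orderOf_dvd_card' r hrd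
  refine ⟨r, Subgroup.zpowers (z : G), hr, hrd, ?_, ?_⟩
  · rw [Subgroup.zpowers_le]; exact z.2
  · rw [Nat.card_zpowers, Subgroup.orderOf_coe, hzo]

/-- Primes of `α(M)` do not divide `|QP|` when `p, q ∉ α(M)`. -/
theorem not_dvd_card_sup_of_alpha {M P Q : Subgroup G} {p q : ℕ} (hpp : p.Prime) (hq : q.Prime)
    (hP : Nat.card P = p) (hQq : IsPGroup q Q) (hPQ : P ≤ Subgroup.normalizer (Q : Set G))
    (hpα : p ∉ alpha M) (hqα : q ∉ alpha M) :
    ∀ s ∈ alpha M, ¬ s ∣ Nat.card (Q ⊔ P : Subgroup G) := by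
  have hKcard : Nat.card (Q ⊔ P : Subgroup G) ∣ Nat.card P * Nat.card Q := by
    rw [sup_comm]
    exact Cfsg.Agent.Lib.Helper27.BG.card_sup_dvd_mul hPQ
  intro s hs hd
  have h1 := hd.trans hKcard
  rcases (Nat.Prime.dvd_mul hs.1).mp h1 with h | h
  · rw [hP] at h
    exact hpα (((Nat.prime_dvd_prime_iff_eq hs.1 hpp).mp h) ▸ hs)
  · have : Fact q.Prime := ⟨hq⟩
    obtain ⟨k, hk⟩ := IsPGroup.iff_card.mp hQq
    rw [hk] at h
    exact hqα (((Nat.prime_dvd_prime_iff_eq hs.1 hq).mp (hs.1.dvd_of_dvd_pow h)) ▸ hs)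

/-- **Half lemma**: a subgroup `T` containing a subgroup `R ≤ M` of order `r ∈ β(M)` and
normalizing a nontrivial `r`-subgroup `V ≤ T` lies in `M`. -/
theorem half_le (hG : IsMinSimpleOddOrder G)
    (h1403 : type_of% (@Cfsg.CfsgFrozen.S1403 G _ _ hG))
    (h1404 : type_of% (@Cfsg.CfsgFrozen.S1404 G _ _ hG))
    (h1423 : type_of% (@Cfsg.CfsgFrozen.S1423 G _ _ hG))
    {M : Subgroup G} (hM : IsCoatom M) {r : ℕ} (hr : r ∈ beta M)
    {R T V : Subgroup G} (hRM : R ≤ M) (hR : Nat.card R = r) (hRT : R ≤ T)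
    (hV1 : V ≠ ⊥) (hVr : IsPGroup r V)
    (hTV : T ≤ Subgroup.normalizer (V : Set G)) : T ≤ M := by
  classical
  have hrp : r.Prime := hr.1.1
  have : Fact r.Prime := ⟨hrp⟩
  have hrσ : r ∈ sigma M := Cfsg.Agent.Lib.Helper78.BG.alpha_subset_sigma hG h1403 M hM hr.1
  have hcent : ∀ X : Subgroup G, X ≤ M → Nat.card X = r →
      Subgroup.centralizer (X : Set G) ≤ M :=
    fun X hXM hX => ((h1423 M hM r hrσ X hXM hX default (Or.inl hr)).1).1
  set D : Subgroup G := R ⊔ V with hD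
  have hDcard : Nat.card D ∣ Nat.card R * Nat.card V :=
    Cfsg.Agent.Lib.Helper27.BG.card_sup_dvd_mul (hRT.trans hTV)
  have hDr : IsPGroup r D := by
    obtain ⟨k, hk⟩ := IsPGroup.iff_card.mp hVr
    rw [hR, hk, ← pow_succ'] at hDcard
    obtain ⟨m, -, hm⟩ := (Nat.dvd_prime_pow hrp).mp hDcard
    exact IsPGroup.of_card hm
  have hDnt : Nontrivial D := by
    obtain ⟨x, hx, hx1⟩ := exists_gen_of_card_prime hrp hR
    exact ⟨⟨⟨x, le_sup_left (a := R) hx⟩, 1, fun h => hx1 (congrArg Subtype.val h)⟩⟩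
  have hcn : Nontrivial (Subgroup.center D) := hDr.center_nontrivial
  obtain ⟨z, hzo⟩ := exists_orderOf_eq_of_isPGroup hrp (hDr.to_subgroup (Subgroup.center D))
  set z0 : G := ((z : D) : G) with hz0
  have hz0o : orderOf z0 = r := by
    rw [hz0, Subgroup.orderOf_coe, Subgroup.orderOf_coe, hzo]
  have hz0comm : ∀ d ∈ D, d * z0 = z0 * d := by
    intro d hd
    have h1 := Subgroup.mem_center_iff.mp z.2 ⟨d, hd⟩
    exact congrArg (Subtype.val : ↥D → G) h1
  have hz0M : z0 ∈ M := by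
    apply hcent R hRM hR
    rw [Subgroup.mem_centralizer_iff]
    intro y hy
    exact hz0comm y (le_sup_left (a := R) hy)
  have hZcard : Nat.card (Subgroup.zpowers z0) = r := by rw [Nat.card_zpowers, hz0o]
  have hVM : V ≤ M := by
    intro v hv
    apply hcent (Subgroup.zpowers z0) (by rw [Subgroup.zpowers_le]; exact hz0M) hZcard
    rw [Subgroup.mem_centralizer_iff]
    intro y hy
    obtain ⟨k, rfl⟩ := Subgroup.mem_zpowers_iff.mp hy
    have hc : Commute z0 v := (hz0comm v (le_sup_right (a := R) hv)).symm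
    exact (hc.zpow_left k).eq
  have hVnt : Nontrivial V := by
    rw [← not_subsingleton_iff_nontrivial]
    intro hs
    exact hV1 (Subgroup.eq_bot_of_subsingleton V)
  obtain ⟨w, hwo⟩ := exists_orderOf_eq_of_isPGroup hrp hVr
  have hWcard : Nat.card (Subgroup.zpowers (w : G)) = r := by
    rw [Nat.card_zpowers, Subgroup.orderOf_coe, hwo]
  have hWV : Subgroup.zpowers (w : G) ≤ V := by rw [Subgroup.zpowers_le]; exact w.2
  have hCV : Subgroup.centralizer (V : Set G) ≤ M :=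
    (Subgroup.centralizer_le hWV).trans (hcent _ (hWV.trans hVM) hWcard)
  have hNV : Subgroup.normalizer (V : Set G) ≤ M := by
    rw [(h1404 M hM r hrσ V hVr hV1 hVM).2]
    exact sup_le inf_le_left hCV
  exact hTV.trans hNV

/-- **Claim A**: in the situation of Lemma L4 for `(M, P, Q)` with `M`, `M*` not conjugate and
`p ∉ σ(M*)`, the centralizer `C_M(P)` has no subgroup of order `r' ∈ β(M*)`. -/
theorem claimA (hG : IsMinSimpleOddOrder G)
    (h1350 : type_of% (@Cfsg.CfsgFrozen.S1350 G _ _ hG))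
    (h1403 : type_of% (@Cfsg.CfsgFrozen.S1403 G _ _ hG))
    (h1405 : type_of% (@Cfsg.CfsgFrozen.S1405 G _ _ hG))
    (h1407 : type_of% (@Cfsg.CfsgFrozen.S1407 G _ _ hG))
    (h1408 : type_of% (@Cfsg.CfsgFrozen.S1408 G _ _ hG))
    (h1414 : type_of% (@Cfsg.CfsgFrozen.S1414 G _ _ hG))
    (h1423 : type_of% (@Cfsg.CfsgFrozen.S1423 G _ _ hG))
    (h1428 : type_of% (@Cfsg.CfsgFrozen.S1428 G _ _ hG))
    {M Ms P Q : Subgroup G} {p q : ℕ}
    (hM : IsCoatom M) (hMs : IsCoatom Ms)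
    (hnc : ∀ g : G, Ms ≠ M.map (MulAut.conj g).toMonoidHom)
    (hnc' : ∀ g : G, M ≠ Ms.map (MulAut.conj g).toMonoidHom)
    (hp : p ∈ tau1 M) (hpMs : p ∉ sigma Ms) (hPM : P ≤ M) (hPMs : P ≤ Ms)
    (hP : Nat.card P = p)
    (hq : q.Prime) (hQ : IsSylowIn q Q M)
    (hPQ : P ≤ Subgroup.normalizer (Q : Set G))
    (hCQ : Q ⊓ Subgroup.centralizer (P : Set G) = ⊥)
    (hNQ : Subgroup.normalizer (Q : Set G) ≤ Ms)
    {r' : ℕ} (hr' : r' ∈ beta Ms) {R1 : Subgroup G} (hR1M : R1 ≤ M)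
    (hR1P : R1 ≤ Subgroup.centralizer (P : Set G)) (hR1 : Nat.card R1 = r') : False := by
  classical
  have hne : Ms ≠ M := by
    have := hnc 1
    rwa [Cfsg.Agent.Lib.Helper35.BG.map_conj_one] at this
  obtain ⟨-, hqα, hpα, hαβ, hdecα, -, -, hX1, hXQ⟩ :=
    lemL4 hG h1403 h1405 h1407 h1414 hM hMs hne hp hPM hP hq hQ hPQ hCQ hNQ
  have hpp : p.Prime := hp.1
  have hpσ : p ∉ sigma M := hp.2.1
  have : Fact p.Prime := ⟨hpp⟩
  have : Fact q.Prime := ⟨hq⟩
  have hr'p : r'.Prime := hr'.1.1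
  have : Fact r'.Prime := ⟨hr'p⟩
  obtain ⟨hαHall, -, hασ, -, -⟩ := h1405 M hM
  have hσHall : IsPiHallOf (sigma M) (sigmaCore M) M := (h1350 M hM).1
  have hr'σs : r' ∈ sigma Ms :=
    Cfsg.Agent.Lib.Helper78.BG.alpha_subset_sigma hG h1403 Ms hMs hr'.1
  have hr'σ : r' ∉ sigma M := fun h =>
    Cfsg.Agent.Lib.Helper13.BG.alpha_sigma_disjoint hG h1403 hM hMs hnc hr'.1 h
  have hr'α : r' ∉ alpha M := fun h =>
    hr'σ (Cfsg.Agent.Lib.Helper78.BG.alpha_subset_sigma hG h1403 M hM h)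
  have hr'p' : r' ≠ p := fun h => hpMs (h ▸ hr'σs)
  have hQM : Q ≤ M := hQ.1
  have hQMs : Q ≤ Ms := Subgroup.le_normalizer.trans hNQ
  have hQq : IsPGroup q Q := sylIn_isPGroup hQ
  -- a generator of `P`, acting fixed-point-freely on `Q`
  obtain ⟨b, hbP, hb1⟩ := exists_gen_of_card_prime hpp hP
  have hbQ : b ∈ Subgroup.normalizer (Q : Set G) := hPQ hbP
  have hfix : ∀ a ∈ Q, b * a = a * b → a = 1 := by
    intro a ha hab
    have h1 : a ∈ Q ⊓ Subgroup.centralizer (P : Set G) :=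
      ⟨ha, mem_centralizer_of_card_prime hpp hP hbP hb1 hab⟩
    rw [hCQ] at h1
    exact Subgroup.mem_bot.mp h1
  -- Step 1: a generator `x` of `R1`, written `x = a * n`
  obtain ⟨x, hxR, hx1⟩ := exists_gen_of_card_prime hr'p hR1
  have hxM : x ∈ M := hR1M hxR
  have hxP : ∀ u ∈ P, u * x = x * u := fun u hu =>
    Subgroup.mem_centralizer_iff.mp (hR1P hxR) u hu
  have hxo : orderOf x = r' := by
    have h1 : orderOf x ∣ r' := hR1 ▸ Subgroup.orderOf_dvd_natCard R1 hxR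
    rcases (Nat.dvd_prime hr'p).mp h1 with h | h
    · exact absurd (orderOf_eq_one_iff.mp h) hx1
    · exact h
  obtain ⟨a, ha, n, hn, hxan⟩ := hdecα x hxM
  have hn' : n = a⁻¹ * x := by rw [hxan]; group
  -- Step 2: a `P`-fixed element `c` of the coset
  have hαM : alphaCore M ≤ M := alphaCore_le54 M
  have hMnα : M ≤ Subgroup.normalizer ((alphaCore M : Subgroup G) : Set G) :=
    le_normalizer_alphaCore M
  obtain ⟨D, hD⟩ : ∃ D : Subgroup G, D = alphaCore M ⊔ R1 := ⟨_, rfl⟩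
  have hαD : alphaCore M ≤ D := hD ▸ le_sup_left
  have hR1D : R1 ≤ D := hD ▸ le_sup_right
  have hDM : D ≤ M := hD ▸ sup_le hαM hR1M
  have hDcard : Nat.card D ∣ Nat.card R1 * Nat.card (alphaCore M) := by
    rw [hD, sup_comm]
    exact Cfsg.Agent.Lib.Helper27.BG.card_sup_dvd_mul (hR1M.trans hMnα)
  have hPD : P ≤ Subgroup.normalizer (D : Set G) := by
    intro u hu
    rw [hD]
    apply Cfsg.Agent.Lib.Helper29.BG.mem_normalizer_sup_K (hMnα (hPM hu))
    apply centralizer_le_normalizer'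
    rw [Subgroup.mem_centralizer_iff]
    intro y hy
    exact (Subgroup.mem_centralizer_iff.mp (hR1P hy) u hu).symm
  have hPNN : P ≤ Subgroup.normalizer
      ((Subgroup.normalizer (Q : Set G) : Subgroup G) : Set G) :=
    hPQ.trans Subgroup.le_normalizer
  obtain ⟨K', hK'⟩ : ∃ K' : Subgroup G, K' = D ⊓ Subgroup.normalizer (Q : Set G) := ⟨_, rfl⟩
  obtain ⟨N, hN⟩ : ∃ N : Subgroup G, N = alphaCore M ⊓ Subgroup.normalizer (Q : Set G) :=
    ⟨_, rfl⟩
  have hPK' : P ≤ Subgroup.normalizer (K' : Set G) := fun u hu => by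
    rw [hK']
    exact Cfsg.Agent.Lib.Helper29.BG.mem_normalizer_inf_K (hPD hu) (hPNN hu)
  have hPN : P ≤ Subgroup.normalizer (N : Set G) := fun u hu => by
    rw [hN]
    exact Cfsg.Agent.Lib.Helper29.BG.mem_normalizer_inf_K (hMnα (hPM hu)) (hPNN hu)
  have hNK' : N ≤ K' := by
    rw [hN, hK']; exact inf_le_inf_right _ hαD
  have hK'D : K' ≤ D := hK' ▸ inf_le_left
  have hK'NQ : K' ≤ Subgroup.normalizer (Q : Set G) := hK' ▸ inf_le_right
  have hK'N : K' ≤ Subgroup.normalizer (N : Set G) := fun k hk => by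
    rw [hN]
    exact Cfsg.Agent.Lib.Helper29.BG.mem_normalizer_inf_K (hMnα (hDM (hK'D hk)))
      (Subgroup.le_normalizer (hK'NQ hk))
  have hcop : (Nat.card P).Coprime (Nat.card K') := by
    rw [hP]
    apply (Nat.Prime.coprime_iff_not_dvd hpp).mpr
    intro hd
    have h1 : p ∣ Nat.card R1 * Nat.card (alphaCore M) :=
      (hd.trans (Subgroup.card_dvd_of_le hK'D)).trans hDcard
    rcases (Nat.Prime.dvd_mul hpp).mp h1 with h | h
    · rw [hR1] at h
      exact hr'p' ((Nat.prime_dvd_prime_iff_eq hpp hr'p).mp h).symm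
    · exact hpα (hαHall.2.1 p hpp h)
  have hKsolv : Group.IsSolvable K' :=
    isSolvable_of_ne_top hG (fun h => hM.1 (top_le_iff.mp (h ▸ (hK'D.trans hDM))))
  have hnK' : n ∈ K' := by
    rw [hK']
    refine ⟨?_, hn.2⟩
    rw [hn']
    exact D.mul_mem (hαD ((alphaCore M).inv_mem ha)) (hR1D hxR)
  have hfixn : ∀ u ∈ P, u * n * u⁻¹ * n⁻¹ ∈ N := by
    intro u hu
    rw [hN]
    refine ⟨?_, ?_⟩
    · have hux : u * x * u⁻¹ = x := by rw [hxP u hu]; group
      have e : u * n * u⁻¹ * n⁻¹ = (u * a⁻¹ * u⁻¹) * a := by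
        rw [hn']
        calc u * (a⁻¹ * x) * u⁻¹ * (a⁻¹ * x)⁻¹
            = (u * a⁻¹ * u⁻¹) * (u * x * u⁻¹) * x⁻¹ * a := by group
          _ = (u * a⁻¹ * u⁻¹) * a := by rw [hux]; group
      rw [e]
      exact (alphaCore M).mul_mem
        ((Subgroup.mem_normalizer_iff.mp (hMnα (hPM hu)) _).mp ((alphaCore M).inv_mem ha)) ha
    · exact Subgroup.mul_mem _ (Subgroup.mul_mem _ (Subgroup.mul_mem _ (hPQ hu) hn.2)
        (Subgroup.inv_mem _ (hPQ hu))) (Subgroup.inv_mem _ hn.2)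
  obtain ⟨c, hc, hcN⟩ := Cfsg.Agent.S0022.result P K' hPK' hcop (Or.inr hKsolv) N hNK' hK'N hPN
    n hnK' hfixn
  have hcD : c ∈ D := hK'D hc.1
  have hcM : c ∈ M := hDM hcD
  have hcNQ : c ∈ Subgroup.normalizer (Q : Set G) := hK'NQ hc.1
  have hcP : c ∈ Subgroup.centralizer (P : Set G) := hc.2
  have hcNα : n⁻¹ * c ∈ alphaCore M := by
    rw [hN] at hcN; exact hcN.1
  -- Step 3: `r'` divides the order of `c`
  have hcord : r' ∣ orderOf c := by
    by_contra hnd
    have h1 : orderOf c ∣ Nat.card R1 * Nat.card (alphaCore M) :=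
      (Subgroup.orderOf_dvd_natCard D hcD).trans hDcard
    rw [hR1] at h1
    have h2 : (orderOf c).Coprime r' :=
      Nat.Coprime.symm ((Nat.Prime.coprime_iff_not_dvd hr'p).mpr hnd)
    have h3 : orderOf c ∣ Nat.card (alphaCore M) := h2.dvd_of_dvd_mul_left h1
    have hcα : c ∈ alphaCore M := by
      have hle : Subgroup.zpowers c ≤ alphaCore M := by
        apply Cfsg.Agent.Lib.Helper74.BG.le_of_isPiHallOf_of_normal hαHall hMnα
          (by rw [Subgroup.zpowers_le]; exact hcM)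
        intro t ht htd
        rw [Nat.card_zpowers] at htd
        exact hαHall.2.1 t ht (htd.trans h3)
      exact hle (Subgroup.mem_zpowers c)
    have hxα : x ∈ alphaCore M := by
      have e : x = a * (c * (n⁻¹ * c)⁻¹) := by rw [hxan]; group
      rw [e]
      exact (alphaCore M).mul_mem ha
        ((alphaCore M).mul_mem hcα ((alphaCore M).inv_mem hcNα))
    exact hr'α (hαHall.2.1 r' hr'p (hxo ▸ Subgroup.orderOf_dvd_natCard (alphaCore M) hxα))
  obtain ⟨c0, hc0⟩ : ∃ c0 : G, c0 = c ^ (orderOf c / r') := ⟨_, rfl⟩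
  have hc0o : orderOf c0 = r' := by
    rw [hc0]; exact orderOf_pow_orderOf_div (orderOf_pos c).ne' hcord
  obtain ⟨R0, hR0⟩ : ∃ R0 : Subgroup G, R0 = Subgroup.zpowers c0 := ⟨_, rfl⟩
  have hR0card : Nat.card R0 = r' := by rw [hR0, Nat.card_zpowers, hc0o]
  have hR0M : R0 ≤ M := by
    rw [hR0, Subgroup.zpowers_le, hc0]; exact M.pow_mem hcM _
  have hR0NQ : R0 ≤ Subgroup.normalizer (Q : Set G) := by
    rw [hR0, Subgroup.zpowers_le, hc0]; exact Subgroup.pow_mem _ hcNQ _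
  have hR0P : R0 ≤ Subgroup.centralizer (P : Set G) := by
    rw [hR0, Subgroup.zpowers_le, hc0]; exact Subgroup.pow_mem _ hcP _
  -- Step 4: `C(R0) ≤ M*`
  have hR0Ms : R0 ≤ Ms := hR0NQ.trans hNQ
  have hCR0 : Subgroup.centralizer (R0 : Set G) ≤ Ms :=
    ((h1423 Ms hMs r' hr'σs R0 hR0Ms hR0card default (Or.inl hr')).1).1
  -- Step 5: a complement of `M_σ` containing `P R0`
  have hKcomp : ∀ t : ℕ, t.Prime → t ∣ Nat.card (P ⊔ R0 : Subgroup G) → t ∉ sigma M := by
    intro t ht htd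
    have h1 : Nat.card (P ⊔ R0 : Subgroup G) ∣ Nat.card R0 * Nat.card P := by
      rw [sup_comm]
      exact Cfsg.Agent.Lib.Helper27.BG.card_sup_dvd_mul
        (hR0P.trans (centralizer_le_normalizer' P))
    rcases (Nat.Prime.dvd_mul ht).mp (htd.trans h1) with h | h
    · rw [hR0card] at h
      rw [(Nat.prime_dvd_prime_iff_eq ht hr'p).mp h]; exact hr'σ
    · rw [hP] at h
      rw [(Nat.prime_dvd_prime_iff_eq ht hpp).mp h]; exact hpσ
  obtain ⟨E, hE, hKE⟩ := Cfsg.Agent.Lib.Helper76.BG.exists_compl_ge hG M hM hσHall (P ⊔ R0)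
    (sup_le hPM hR0M) hKcomp
  -- Step 6: S1428
  have h28 := h1428 M hM E hE p hp P (le_sup_left.trans hKE) hP R0
    (le_inf (le_sup_right.trans hKE) hR0P) (hR0card ▸ hr'p)
  obtain ⟨J, hJ⟩ : ∃ J : Subgroup G, J = alphaCore M ⊓ Ms := ⟨_, rfl⟩
  have hXJ : alphaCore M ⊓ Subgroup.centralizer (P : Set G) ≤ J := by
    intro y hy
    rw [hJ]
    exact ⟨hy.1, hCR0 (h28 ⟨hασ hy.1, hy.2⟩).2⟩
  -- Step 7: `Q` centralizes `J`
  have hJα : J ≤ alphaCore M := hJ ▸ inf_le_left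
  have hJMs : J ≤ Ms := hJ ▸ inf_le_right
  have hKJ : Q ⊔ P ≤ Subgroup.normalizer (J : Set G) := by
    rw [hJ]
    apply sup_le
    · intro u hu
      exact Cfsg.Agent.Lib.Helper29.BG.mem_normalizer_inf_K (hMnα (hQM hu))
        (Subgroup.le_normalizer (hQMs hu))
    · intro u hu
      exact Cfsg.Agent.Lib.Helper29.BG.mem_normalizer_inf_K (hMnα (hPM hu))
        (Subgroup.le_normalizer (hPMs hu))
  have hKnd := not_dvd_card_sup_of_alpha hpp hq hP hQq hPQ hpα hqα
  have hKM : Q ⊔ P ≤ M := sup_le hQM hPM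
  have hJQ : J ≤ Subgroup.centralizer (Q : Set G) := by
    have hdvd : Nat.card J ∣ Nat.card (J ⊓ Subgroup.centralizer (Q : Set G) : Subgroup G) := by
      rw [← Nat.factorization_prime_le_iff_dvd Nat.card_pos.ne' Nat.card_pos.ne']
      intro s hs
      by_cases hsd : s ∣ Nat.card J
      · have : Fact s.Prime := ⟨hs⟩
        have hsα : s ∈ alpha M := hαHall.2.1 s hs (hsd.trans (Subgroup.card_dvd_of_le hJα))
        have hsβ := hαβ s hsα
        have hsσs : s ∉ sigma Ms := fun h =>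
          Cfsg.Agent.Lib.Helper13.BG.alpha_sigma_disjoint hG h1403 hMs hM hnc' hsα h
        have hrk : PRankLE s 1 Ms := by
          by_contra hr1
          by_cases hr2 : PRankLE s 2 Ms
          · exact (h1408 Ms hMs s hsσs hr2 hr1).1 hsβ.2
          · exact hsσs (Cfsg.Agent.Lib.Helper78.BG.alpha_subset_sigma hG h1403 Ms hMs ⟨hs, hr2⟩)
        obtain ⟨Js, hJs, -, hKJs⟩ := Cfsg.Agent.Lib.Helper21.BG.lemInvSylow J (Q ⊔ P) ⊥ hKJ
          (by
            apply Nat.Coprime.symm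
            apply Nat.coprime_of_dvd
            intro k hk h1 h2
            exact hKnd k (hαHall.2.1 k hk (h2.trans (Subgroup.card_dvd_of_le hJα))) h1)
          (hKnd s hsα)
          (by
            apply isSolvable_of_ne_top hG
            intro h
            exact hM.1 (top_le_iff.mp (h ▸ sup_le (hJα.trans hαM) hKM)))
          IsPGroup.of_bot bot_le
          (by
            rw [Subgroup.normalizer_eq_top_iff.mpr
              (by infer_instance : (⊥ : Subgroup G).Normal)]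
            exact le_top)
        have hs2 : s ≠ 2 := by
          intro h2
          have hodd : Odd (Nat.card J) := odd_card_subgroup hG J
          rw [h2] at hsd
          exact (Nat.not_even_iff_odd.mpr hodd) (even_iff_two_dvd.mpr hsd)
        have hJscyc : IsCyclic Js := by
          apply Cfsg.Agent.Lib.Helper13.BG.isCyclic_of_pRankLE_one hs2 (sylIn_isPGroup hJs)
          rw [Cfsg.Agent.Lib.Helper24.pRankLE_subgroup_iff]
          intro A hA hc he
          exact (Cfsg.Agent.Lib.Helper24.pRankLE_subgroup_iff s 1 Ms).mp hrk A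
            (hA.trans (hJs.1.trans hJMs)) hc he
        have hQJs : Q ≤ Subgroup.centralizer (Js : Set G) :=
          le_centralizer_of_fpf_cyclic hJscyc (le_sup_left.trans hKJs)
            ((le_sup_right.trans hKJs) hbP) hbQ hfix
        have hJsle : Js ≤ J ⊓ Subgroup.centralizer (Q : Set G) := by
          intro y hy
          refine ⟨hJs.1 hy, ?_⟩
          show y ∈ Subgroup.centralizer (Q : Set G)
          rw [Subgroup.mem_centralizer_iff]
          intro u hu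
          exact ((Subgroup.mem_centralizer_iff.mp (hQJs hu)) y hy).symm
        have h1 : s ^ (Nat.card J).factorization s ∣
            Nat.card (J ⊓ Subgroup.centralizer (Q : Set G) : Subgroup G) := by
          rw [← hJs.2]; exact Subgroup.card_dvd_of_le hJsle
        exact (Nat.Prime.pow_dvd_iff_le_factorization hs Nat.card_pos.ne').mp h1
      · rw [Nat.factorization_eq_zero_of_not_dvd hsd]; exact Nat.zero_le _
    have heq : J ⊓ Subgroup.centralizer (Q : Set G) = J :=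
      Subgroup.eq_of_le_of_card_ge inf_le_left (Nat.le_of_dvd Nat.card_pos hdvd)
    rw [← heq]; exact inf_le_right
  -- conclusion
  apply hX1
  rw [eq_bot_iff, ← hXQ]
  intro y hy
  exact ⟨⟨hy.1, hJQ (hXJ hy)⟩, hy.2⟩

/-- **The asymmetry lemma** (Bender–Glauberman 13.8). -/
theorem asymmetry (hG : IsMinSimpleOddOrder G)
    (h1350 : type_of% (@Cfsg.CfsgFrozen.S1350 G _ _ hG))
    (h1403 : type_of% (@Cfsg.CfsgFrozen.S1403 G _ _ hG))
    (h1404 : type_of% (@Cfsg.CfsgFrozen.S1404 G _ _ hG))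
    (h1405 : type_of% (@Cfsg.CfsgFrozen.S1405 G _ _ hG))
    (h1407 : type_of% (@Cfsg.CfsgFrozen.S1407 G _ _ hG))
    (h1408 : type_of% (@Cfsg.CfsgFrozen.S1408 G _ _ hG))
    (h1414 : type_of% (@Cfsg.CfsgFrozen.S1414 G _ _ hG))
    (h1423 : type_of% (@Cfsg.CfsgFrozen.S1423 G _ _ hG))
    (h1428 : type_of% (@Cfsg.CfsgFrozen.S1428 G _ _ hG))
    {M Ms P Q Qs : Subgroup G} {p q qs : ℕ}
    (hM : IsCoatom M) (hMs : IsCoatom Ms)
    (hnc : ∀ g : G, Ms ≠ M.map (MulAut.conj g).toMonoidHom)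
    (hp : p ∈ tau1 M) (hps : p ∈ tau1 Ms)
    (hPM : P ≤ M) (hPMs : P ≤ Ms) (hP : Nat.card P = p)
    (hq : q.Prime) (hQ : IsSylowIn q Q M)
    (hPQ : P ≤ Subgroup.normalizer (Q : Set G))
    (hCQ : Q ⊓ Subgroup.centralizer (P : Set G) = ⊥)
    (hNQ : Subgroup.normalizer (Q : Set G) ≤ Ms)
    (hqs : qs.Prime) (hQs : IsSylowIn qs Qs Ms)
    (hPQs : P ≤ Subgroup.normalizer (Qs : Set G))
    (hCQs : Qs ⊓ Subgroup.centralizer (P : Set G) = ⊥)
    (hNQs : Subgroup.normalizer (Qs : Set G) ≤ M) : False := by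
  classical
  have hnc' : ∀ g : G, M ≠ Ms.map (MulAut.conj g).toMonoidHom := by
    intro g h
    apply hnc g⁻¹
    have e : (Ms.map (MulAut.conj g).toMonoidHom).map (MulAut.conj g⁻¹).toMonoidHom = Ms := by
      rw [Cfsg.Agent.Lib.Helper35.BG.map_conj_mul, inv_mul_cancel,
        Cfsg.Agent.Lib.Helper35.BG.map_conj_one]
    rw [← h] at e
    exact e.symm
  have hne : Ms ≠ M := by
    have := hnc 1
    rwa [Cfsg.Agent.Lib.Helper35.BG.map_conj_one] at this
  have hpp : p.Prime := hp.1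
  obtain ⟨-, -, -, hαβ, -, -, -, hX1, -⟩ :=
    lemL4 hG h1403 h1405 h1407 h1414 hM hMs hne hp hPM hP hq hQ hPQ hCQ hNQ
  obtain ⟨-, -, -, hαβs, -, -, -, hX1s, -⟩ :=
    lemL4 hG h1403 h1405 h1407 h1414 hMs hM hne.symm hps hPMs hP hqs hQs hPQs hCQs hNQs
  obtain ⟨hαHall, -, -, -, -⟩ := h1405 M hM
  obtain ⟨hαHalls, -, -, -, -⟩ := h1405 Ms hMs
  -- `R ≤ C_{M_α}(P)` of prime order `r ∈ β(M)`, and `R* ≤ C_{M*_α}(P)` of order `r* ∈ β(M*)`
  obtain ⟨r, R, hrp, hrd, hRle, hRcard⟩ := exists_prime_card_le hX1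
  obtain ⟨rs, Rs, hrsp, hrsd, hRsle, hRscard⟩ := exists_prime_card_le hX1s
  have hrβ : r ∈ beta M :=
    hαβ r (hαHall.2.1 r hrp (hrd.trans (Subgroup.card_dvd_of_le inf_le_left)))
  have hrsβ : rs ∈ beta Ms :=
    hαβs rs (hαHalls.2.1 rs hrsp (hrsd.trans (Subgroup.card_dvd_of_le inf_le_left)))
  have hRM : R ≤ M := (hRle.trans inf_le_left).trans (alphaCore_le54 M)
  have hRsMs : Rs ≤ Ms := (hRsle.trans inf_le_left).trans (alphaCore_le54 Ms)
  -- `C = C_G(P)` is solvable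
  obtain ⟨C, hC⟩ : ∃ C : Subgroup G, C = Subgroup.centralizer (P : Set G) := ⟨_, rfl⟩
  have hRC : R ≤ C := hC ▸ hRle.trans inf_le_right
  have hRsC : Rs ≤ C := hC ▸ hRsle.trans inf_le_right
  have hP1 : P ≠ ⊥ := by
    intro h
    rw [h, Subgroup.card_bot] at hP
    exact hpp.one_lt.ne hP
  have hPtop : P ≠ ⊤ := fun h => hM.1 (top_le_iff.mp (h ▸ hPM))
  have hCtop : C ≠ ⊤ := by
    intro h
    apply normalizer_ne_top hG hP1 hPtop
    rw [eq_top_iff, ← h, hC]
    exact centralizer_le_normalizer' P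
  have hCsolv : Group.IsSolvable C := isSolvable_of_ne_top hG hCtop
  -- Hall `{r, r*}`-subgroups of `C`
  obtain ⟨T, hT, hRT⟩ := Cfsg.Agent.Lib.Helper67.BG.exists_piHallOf_ge {t | t = r ∨ t = rs} C
    hCsolv R hRC (fun t ht htd => Or.inl ((Nat.prime_dvd_prime_iff_eq ht hrp).mp (hRcard ▸ htd)))
  obtain ⟨T2, hT2, hRsT2⟩ := Cfsg.Agent.Lib.Helper67.BG.exists_piHallOf_ge {t | t = r ∨ t = rs} C
    hCsolv Rs hRsC
    (fun t ht htd => Or.inr ((Nat.prime_dvd_prime_iff_eq ht hrsp).mp (hRscard ▸ htd)))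
  obtain ⟨m, hmC, hT2eq⟩ := exists_conj_of_isPiHallOf hCsolv hT hT2
  have hTC : T ≤ C := hT.1
  -- a nontrivial normal subgroup of prime power order of `T`
  have hTnt : Nontrivial T := by
    obtain ⟨x, hx, hx1⟩ := exists_gen_of_card_prime hrp hRcard
    exact ⟨⟨⟨x, hRT hx⟩, 1, fun h => hx1 (congrArg Subtype.val h)⟩⟩
  have hTsolv : Group.IsSolvable T :=
    isSolvable_of_ne_top hG (fun h => hCtop (top_le_iff.mp (h ▸ hTC)))
  obtain ⟨Q0, t, k, hQ0n, -, ht, hk, hQ0card⟩ := Cfsg.Agent.Lib.Helper1.exists_minNormal_pGroup T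
  have : Fact t.Prime := ⟨ht⟩
  obtain ⟨V, hV⟩ : ∃ V : Subgroup G, V = Q0.map T.subtype := ⟨_, rfl⟩
  have hVT : V ≤ T := hV ▸ Subgroup.map_subtype_le _
  have hVcard : Nat.card V = t ^ k := by
    rw [hV, Subgroup.card_map_of_injective T.subtype_injective, hQ0card]
  have hVt : IsPGroup t V := IsPGroup.of_card hVcard
  have hV1 : V ≠ ⊥ := by
    intro h
    rw [h, Subgroup.card_bot] at hVcard
    exact (Nat.one_lt_pow hk.ne' ht.one_lt).ne hVcard
  have hTV : T ≤ Subgroup.normalizer (V : Set G) := by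
    rw [hV]; exact Cfsg.Agent.Lib.Helper13.BG.le_normalizer_map_subtype Q0
  have htπ : t = r ∨ t = rs := by
    apply hT.2.1 t ht
    exact (hVcard ▸ dvd_pow_self t hk.ne').trans (Subgroup.card_dvd_of_le hVT)
  have hmP : ∀ y : G, y ∈ C → m * y * m⁻¹ ∈ C ∧ m⁻¹ * y * m ∈ C := fun y hy =>
    ⟨C.mul_mem (C.mul_mem hmC hy) (C.inv_mem hmC), C.mul_mem (C.mul_mem (C.inv_mem hmC) hy) hmC⟩
  rcases htπ with htr | htrs
  · -- `O_r(T) ≠ 1`: `T ≤ M`
    rw [htr] at hVt
    have hTM : T ≤ M := half_le hG h1403 h1404 h1423 hM hrβ hRM hRcard hRT hV1 hVt hTV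
    have hR1M : Rs.map (MulAut.conj m⁻¹).toMonoidHom ≤ M := by
      intro y hy
      rw [mem_map_conj_iff, inv_inv] at hy
      have h1 : m * y * m⁻¹ ∈ T.map (MulAut.conj m).toMonoidHom := hT2eq ▸ hRsT2 hy
      rw [mem_map_conj_iff] at h1
      have e : m⁻¹ * (m * y * m⁻¹) * m = y := by group
      rw [e] at h1
      exact hTM h1
    have hR1P : Rs.map (MulAut.conj m⁻¹).toMonoidHom ≤ Subgroup.centralizer (P : Set G) := by
      intro y hy
      rw [mem_map_conj_iff, inv_inv] at hy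
      have h1 := (hmP _ (hRsC hy)).2
      have e : m⁻¹ * (m * y * m⁻¹) * m = y := by group
      rw [e, hC] at h1
      exact h1
    exact claimA hG h1350 h1403 h1405 h1407 h1408 h1414 h1423 h1428 hM hMs hnc hnc' hp hps.2.1
      hPM hPMs hP hq hQ hPQ hCQ hNQ hrsβ hR1M hR1P ((card_map_conj Rs m⁻¹).trans hRscard)
  · -- `O_{r*}(T) ≠ 1`: `T^m ≤ M*`
    rw [htrs] at hVt
    have hV2T2 : V.map (MulAut.conj m).toMonoidHom ≤ T2 := by
      rw [hT2eq]; exact Subgroup.map_mono hVT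
    have hT2V2 : T2 ≤ Subgroup.normalizer
        ((V.map (MulAut.conj m).toMonoidHom : Subgroup G) : Set G) := by
      rw [hT2eq, normalizer_map_conj]; exact Subgroup.map_mono hTV
    have hV21 : V.map (MulAut.conj m).toMonoidHom ≠ ⊥ := by
      intro h
      apply hV1
      rw [← Subgroup.card_eq_one, ← card_map_conj V m, h, Subgroup.card_bot]
    have hT2Ms : T2 ≤ Ms := half_le hG h1403 h1404 h1423 hMs hrsβ hRsMs hRscard hRsT2 hV21
      (isPGroup_map_conj hVt m) hT2V2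
    have hR1Ms : R.map (MulAut.conj m).toMonoidHom ≤ Ms := by
      refine le_trans ?_ hT2Ms
      rw [hT2eq]; exact Subgroup.map_mono hRT
    have hR1P : R.map (MulAut.conj m).toMonoidHom ≤ Subgroup.centralizer (P : Set G) := by
      intro y hy
      rw [mem_map_conj_iff] at hy
      have h1 := (hmP _ (hRC hy)).1
      have e : m * (m⁻¹ * y * m) * m⁻¹ = y := by group
      rw [e, hC] at h1
      exact h1
    exact claimA hG h1350 h1403 h1405 h1407 h1408 h1414 h1423 h1428 hMs hM hnc' hnc hps hp.2.1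
      hPMs hPM hP hqs hQs hPQs hCQs hNQs hrβ hR1Ms hR1P ((card_map_conj R m).trans hRcard)

end Cfsg.Agent.Lib.Helper54.BG
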