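import Mathlib
import Cfsg.Prelude.Def_OddOrderLocal
import Cfsg.Agent.S1445
import Cfsg.Agent.S0022
import Cfsg.Agent.S0033
import Cfsg.Agent.Lib.Helper1.FittingPrimary
import Cfsg.Agent.Lib.Helper4.CNSolv
import Cfsg.Agent.Lib.Helper35.BG.Hall
import Cfsg.Agent.Lib.Helper79.BG.Util2
import Cfsg.Agent.Lib.Helper23.Transport
import Cfsg.Agent.Lib.Helper54.BG.PrimeActionInv

/-!
# Prime action on a non-nilpotent normal Hall subgroup: the structure theorem (BG 15.2)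

`M = S ⋊ K` solvable of odd order, `[S, K] = S`, `C_S(k) = Ks` of prime order `q` for all
non-identity `k ∈ K`, and `S` not nilpotent.  Then `|K|` is prime, `S` has a normal Sylow
`q`-subgroup `Q ≥ Ks` (normal in `M`), and for every complement `D` of `Q` in `S`: `D` is
nilpotent, `Q₀ = C_Q(D)` is normal in `M`, `Q/Q₀` is elementary abelian of order `q ^ |K|` and a
chief factor of `M`.
-/

set_option autoImplicit false

namespace Cfsg.Agent.Lib.Helper54.BG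

open scoped commutatorElement
open Pointwise

universe u

variable {G : Type u} [Group G] [Finite G]

omit [Finite G] in
/-- Product decomposition in `N ⊔ A` when `A` normalizes `N`. -/
theorem exists_mul_of_mem_sup {N A : Subgroup G} (hAN : A ≤ Subgroup.normalizer (N : Set G))
    {x : G} (hx : x ∈ N ⊔ A) : ∃ n ∈ N, ∃ a ∈ A, x = n * a := by
  rw [Subgroup.sup_eq_closure_mul] at hx
  induction hx using Subgroup.closure_induction with
  | mem x hx =>
    obtain ⟨n, hn, a, ha, rfl⟩ := Set.mem_mul.mp hx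
    exact ⟨n, hn, a, ha, rfl⟩
  | one => exact ⟨1, N.one_mem, 1, A.one_mem, by simp⟩
  | mul x y _ _ ihx ihy =>
    obtain ⟨n₁, hn₁, a₁, ha₁, rfl⟩ := ihx
    obtain ⟨n₂, hn₂, a₂, ha₂, rfl⟩ := ihy
    exact ⟨n₁ * (a₁ * n₂ * a₁⁻¹),
      N.mul_mem hn₁ ((Subgroup.mem_normalizer_iff.mp (hAN ha₁) n₂).mp hn₂), a₁ * a₂,
      A.mul_mem ha₁ ha₂, by group⟩
  | inv x _ ih =>
    obtain ⟨n, hn, a, ha, rfl⟩ := ih
    refine ⟨a⁻¹ * n⁻¹ * a, ?_, a⁻¹, A.inv_mem ha, by group⟩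
    have := (Subgroup.mem_normalizer_iff.mp (hAN (A.inv_mem ha)) n⁻¹).mp (N.inv_mem hn)
    simpa using this

/-- **Step 1.** `Ks ≤ O_q(S)`: otherwise `F(S) ∩ Ks = 1` and B–G Theorem 3.7 (S1445) makes
`S = [S, K] ≤ F(S)` nilpotent. -/
theorem ks_le_pCore (M S K : Subgroup G) (q : ℕ) [Fact q.Prime]
    (hMs : Group.IsSolvable M) (hModd : Odd (Nat.card M)) (hSM : S ≤ M) (hKM : K ≤ M)
    (hMS : M ≤ Subgroup.normalizer (S : Set G))
    (hSK : ∀ m ∈ M, ∃ s ∈ S, ∃ k ∈ K, m = s * k)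
    (hcop : (Nat.card S).Coprime (Nat.card K))
    (hq : Nat.card ↥(S ⊓ Subgroup.centralizer (K : Set G)) = q)
    (hpr : ∀ k ∈ K, k ≠ 1 →
      S ⊓ Subgroup.centralizer ({k} : Set G) = S ⊓ Subgroup.centralizer (K : Set G))
    (hcomm : ⁅S, K⁆ = S) (hnil : ¬ Group.IsNilpotent S) :
    S ⊓ Subgroup.centralizer (K : Set G) ≤ (Cfsg.pCore q ↥S).map S.subtype := by
  classical
  by_contra hnot
  have hF0 : ∀ f : ↥S, f ∈ Cfsg.fittingSubgroup ↥S →
      (f : G) ∈ Subgroup.centralizer (K : Set G) → f = 1 := by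
    intro f hf hfK
    by_contra hf1
    have hfKs : (f : G) ∈ S ⊓ Subgroup.centralizer (K : Set G) :=
      Subgroup.mem_inf.mpr ⟨f.2, hfK⟩
    have hfq : f ^ q ^ 1 = 1 := by
      have h1 : (⟨(f : G), hfKs⟩ : ↥(S ⊓ Subgroup.centralizer (K : Set G))) ^ q = 1 := by
        rw [← hq]
        exact pow_card_eq_one'
      have h2 : (f : G) ^ q = 1 := by
        have := congrArg Subtype.val h1
        simpa using this
      rw [pow_one]
      exact Subtype.ext (by rw [Subgroup.coe_pow, Subgroup.coe_one]; exact h2)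
    have hfc : f ∈ Cfsg.pCore q ↥S :=
      Cfsg.Agent.Lib.Helper1.mem_pCore_of_mem_fitting f hf 1 hfq
    apply hnot
    exact le_of_prime_card_of_mem hq hfKs (fun h => hf1 (Subtype.ext h)) ⟨f, hfc, rfl⟩
  have : Group.IsSolvable ↥M := hMs
  have hSn : (S.subgroupOf M).Normal :=
    (Subgroup.normal_subgroupOf_iff_le_normalizer hSM).mpr hMS
  have hsup : S.subgroupOf M ⊔ K.subgroupOf M = ⊤ := by
    rw [eq_top_iff]
    intro m _
    obtain ⟨s, hs, k, hk, h⟩ := hSK m m.2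
    have h2 : m = (⟨s, hSM hs⟩ : ↥M) * ⟨k, hKM hk⟩ := Subtype.ext h
    rw [h2]
    exact Subgroup.mul_mem_sup (Subgroup.mem_subgroupOf.mpr hs) (Subgroup.mem_subgroupOf.mpr hk)
  have hcop' : (Nat.card (S.subgroupOf M)).Coprime (Nat.card (K.subgroupOf M)) := by
    rw [Cfsg.Agent.Lib.Helper1.card_subgroupOf_of_le hSM,
      Cfsg.Agent.Lib.Helper1.card_subgroupOf_of_le hKM]
    exact hcop
  have hmemC : ∀ y : ↥M,
      y ∈ Subgroup.centralizer ((K.subgroupOf M : Subgroup ↥M) : Set ↥M) ↔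
        (y : G) ∈ Subgroup.centralizer (K : Set G) := by
    intro y
    rw [Subgroup.mem_centralizer_iff, Subgroup.mem_centralizer_iff]
    constructor
    · intro h k hk
      have := h ⟨k, hKM hk⟩ (Subgroup.mem_subgroupOf.mpr hk)
      exact congrArg Subtype.val this
    · intro h z hz
      exact Subtype.ext (h (z : G) (Subgroup.mem_subgroupOf.mp hz))
  have hprime : ∀ x ∈ K.subgroupOf M, x ≠ 1 →
      S.subgroupOf M ⊓ Subgroup.centralizer ({x} : Set ↥M) =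
        S.subgroupOf M ⊓
          Subgroup.centralizer ((K.subgroupOf M : Subgroup ↥M) : Set ↥M) := by
    intro x hx hx1
    have hxK : (x : G) ∈ K := Subgroup.mem_subgroupOf.mp hx
    have hx1' : (x : G) ≠ 1 := fun h => hx1 (Subtype.ext h)
    ext y
    rw [Subgroup.mem_inf, Subgroup.mem_inf, hmemC]
    constructor
    · rintro ⟨hy, hyx⟩
      refine ⟨hy, ?_⟩
      have h1 : (y : G) ∈ S ⊓ Subgroup.centralizer ({(x : G)} : Set G) := by
        refine Subgroup.mem_inf.mpr ⟨Subgroup.mem_subgroupOf.mp hy, ?_⟩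
        rw [Subgroup.mem_centralizer_iff]
        intro h hh
        rw [Set.mem_singleton_iff] at hh
        rw [hh]
        have := Subgroup.mem_centralizer_iff.mp hyx x (Set.mem_singleton x)
        exact congrArg Subtype.val this
      rw [hpr (x : G) hxK hx1'] at h1
      exact (Subgroup.mem_inf.mp h1).2
    · rintro ⟨hy, hyK⟩
      refine ⟨hy, ?_⟩
      rw [Subgroup.mem_centralizer_iff]
      intro h hh
      rw [Set.mem_singleton_iff] at hh
      rw [hh]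
      exact Subtype.ext (Subgroup.mem_centralizer_iff.mp hyK (x : G) hxK)
  have hF : Cfsg.fittingOf (S.subgroupOf M) ⊓
      Subgroup.centralizer ((K.subgroupOf M : Subgroup ↥M) : Set ↥M) = ⊥ := by
    rw [eq_bot_iff]
    intro f hf
    rw [Subgroup.mem_bot]
    obtain ⟨f₁, hf₁, hff⟩ := (Subgroup.mem_inf.mp hf).1
    have h1 := Cfsg.Agent.Lib.Helper29.fittingSubgroup_map_le
      (Subgroup.subgroupOfEquivOfLe hSM) ⟨f₁, hf₁, rfl⟩
    have h2 : (((Subgroup.subgroupOfEquivOfLe hSM).toMonoidHom f₁ : ↥S) : G) = (f : G) := by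
      rw [← hff]
      rfl
    have h3 := hF0 _ h1 (by rw [h2]; exact (hmemC f).mp (Subgroup.mem_inf.mp hf).2)
    apply Subtype.ext
    rw [← h2]
    exact congrArg Subtype.val h3
  have hmain := Cfsg.Agent.S1445.result hModd (S.subgroupOf M) (K.subgroupOf M) hsup hcop'
    hprime hF
  have hmapc : (⁅S.subgroupOf M, K.subgroupOf M⁆).map M.subtype = S := by
    rw [Subgroup.map_commutator, Subgroup.map_subgroupOf_eq_of_le hSM,
      Subgroup.map_subgroupOf_eq_of_le hKM, hcomm]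
  have hle : S.subgroupOf M ≤ Cfsg.fittingOf (S.subgroupOf M) := by
    intro y hy
    have hyS : (y : G) ∈ (⁅S.subgroupOf M, K.subgroupOf M⁆).map M.subtype := by
      rw [hmapc]
      exact Subgroup.mem_subgroupOf.mp hy
    obtain ⟨z, hz, hzy⟩ := hyS
    have : z = y := Subtype.ext hzy
    rw [← this]
    exact hmain hz
  have hnil1 : Group.IsNilpotent ↥(S.subgroupOf M) := by
    have := Cfsg.Agent.Lib.Helper79.BG.fittingOf_nilpotent (S.subgroupOf M)
    have h2 : Group.IsNilpotent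
        ↥((S.subgroupOf M).subgroupOf (Cfsg.fittingOf (S.subgroupOf M))) := inferInstance
    exact Group.nilpotent_of_mulEquiv (Subgroup.subgroupOfEquivOfLe hle)
  exact hnil (Group.nilpotent_of_mulEquiv (Subgroup.subgroupOfEquivOfLe hSM))

/-- **Step 2.** `O_q(S)` is a Sylow `q`-subgroup of `S`: `K` acts without fixed points on
`S / O_q(S)`, which is therefore nilpotent (Thompson) with trivial `O_q`. -/
theorem pCore_sylow (M S K : Subgroup G) (q : ℕ) [Fact q.Prime]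
    (hMs : Group.IsSolvable M) (hSM : S ≤ M) (hKM : K ≤ M)
    (hMS : M ≤ Subgroup.normalizer (S : Set G))
    (hcop : (Nat.card S).Coprime (Nat.card K)) (hK1 : K ≠ ⊥)
    (hpr : ∀ k ∈ K, k ≠ 1 →
      S ⊓ Subgroup.centralizer ({k} : Set G) = S ⊓ Subgroup.centralizer (K : Set G))
    (hKsQ : S ⊓ Subgroup.centralizer (K : Set G) ≤ (Cfsg.pCore q ↥S).map S.subtype) :
    ¬ q ∣ ((Cfsg.pCore q ↥S).map S.subtype).relIndex S := by
  classical
  obtain ⟨N, hNdef⟩ : ∃ N : Subgroup ↥S, N = Cfsg.pCore q ↥S := ⟨_, rfl⟩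
  rw [← hNdef] at hKsQ ⊢
  have hNn : N.Normal := by rw [hNdef]; infer_instance
  have hNc : N.Characteristic := by
    rw [hNdef]
    exact Cfsg.Agent.Lib.Helper23.pCore_characteristic q _
  -- an element of prime order of `K`
  have hK1' : 1 < Nat.card K := by
    have hnon : Nontrivial ↥K := (Subgroup.nontrivial_iff_ne_bot K).mpr hK1
    exact Finite.one_lt_card
  obtain ⟨r, hr, hrdvd⟩ := Nat.exists_prime_and_dvd hK1'.ne'
  have hrF : Fact r.Prime := ⟨hr⟩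
  obtain ⟨e, he⟩ := exists_prime_orderOf_dvd_card' (G := ↥K) r hrdvd
  obtain ⟨k₁, hk₁def⟩ : ∃ k₁ : G, k₁ = (e : G) := ⟨_, rfl⟩
  have hk₁K : k₁ ∈ K := by rw [hk₁def]; exact e.2
  have hord : orderOf k₁ = r := by
    rw [hk₁def, ← he]
    exact Subgroup.orderOf_coe e
  have hk₁1 : k₁ ≠ 1 := by
    intro h
    rw [h, orderOf_one] at hord
    exact hr.one_lt.ne hord
  have hk₁r : k₁ ^ r = 1 := by rw [← hord]; exact pow_orderOf_eq_one _
  have hk₁N : k₁ ∈ Subgroup.normalizer (S : Set G) := hMS (hKM hk₁K)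
  let α : MulAut ↥S := Cfsg.Agent.Lib.Helper48.normConj S ⟨k₁, hk₁N⟩
  have hα : ∀ s : ↥S, ((α s : ↥S) : G) = k₁ * s * k₁⁻¹ := fun s => rfl
  have hNα : N ≤ N.comap α.toMonoidHom := by
    rw [Subgroup.characteristic_iff_comap_eq.mp hNc α]
  let φ : ↥S ⧸ N →* ↥S ⧸ N := QuotientGroup.map N N α.toMonoidHom hNα
  have hφ : ∀ s : ↥S, φ (QuotientGroup.mk s) = QuotientGroup.mk (α s) := fun s => rfl
  obtain ⟨Q, hQdef⟩ : ∃ Q : Subgroup G, Q = N.map S.subtype := ⟨_, rfl⟩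
  rw [← hQdef] at hKsQ ⊢
  have hQS : Q ≤ S := by rw [hQdef]; exact Subgroup.map_subtype_le _
  have hmemQ : ∀ s : ↥S, (s : G) ∈ Q ↔ s ∈ N := by
    intro s
    rw [hQdef]
    constructor
    · rintro ⟨n, hn, hns⟩
      have : n = s := Subtype.ext hns
      rwa [← this]
    · intro h
      exact ⟨s, h, rfl⟩
  have hSQ : S ≤ Subgroup.normalizer (Q : Set G) := by
    intro s hs
    apply Cfsg.Agent.Lib.Helper54.mem_normalizer_of_conj_mem
    intro x hx
    have hxS : x ∈ S := hQS hx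
    have h1 : (⟨x, hxS⟩ : ↥S) ∈ N := (hmemQ ⟨x, hxS⟩).mp hx
    have h2 : (⟨s, hs⟩ : ↥S) * ⟨x, hxS⟩ * (⟨s, hs⟩ : ↥S)⁻¹ ∈ N := hNn.conj_mem _ h1 _
    exact (hmemQ _).mpr h2
  have hk₁Q : k₁ ∈ Subgroup.normalizer (Q : Set G) := by
    apply Cfsg.Agent.Lib.Helper54.mem_normalizer_of_conj_mem
    intro x hx
    have hxS : x ∈ S := hQS hx
    have h1 : (⟨x, hxS⟩ : ↥S) ∈ N := (hmemQ ⟨x, hxS⟩).mp hx
    have h2 : α ⟨x, hxS⟩ ∈ N := hNα h1
    exact (hmemQ _).mpr h2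
  have hsolvS : Group.IsSolvable S := Cfsg.Agent.Lib.Helper1.isSolvable_of_le hSM hMs
  have hfpf : MonoidHom.FixedPointFree φ := by
    intro x
    refine QuotientGroup.induction_on x ?_
    intro s hx
    rw [hφ, QuotientGroup.eq] at hx
    rw [QuotientGroup.eq_one_iff]
    have h1 : (k₁ * (s : G) * k₁⁻¹)⁻¹ * (s : G) ∈ Q := (hmemQ _).mpr hx
    have hbase : k₁ * (s : G) * k₁⁻¹ * (s : G)⁻¹ ∈ Q := by
      have h2 : ((k₁ * (s : G) * k₁⁻¹)⁻¹ * (s : G))⁻¹ ∈ Q := Q.inv_mem h1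
      have h3 := (Subgroup.mem_normalizer_iff.mp (hSQ s.2) _).mp h2
      have e1 : (s : G) * ((k₁ * (s : G) * k₁⁻¹)⁻¹ * (s : G))⁻¹ * (s : G)⁻¹ =
          k₁ * (s : G) * k₁⁻¹ * (s : G)⁻¹ := by group
      rwa [e1] at h3
    have hpow : ∀ n : ℕ, k₁ ^ n * (s : G) * (k₁ ^ n)⁻¹ * (s : G)⁻¹ ∈ Q := by
      intro n
      induction n with
      | zero => simp
      | succ n ih =>
        have e1 : k₁ ^ (n + 1) * (s : G) * (k₁ ^ (n + 1))⁻¹ * (s : G)⁻¹ =
            (k₁ ^ n * (k₁ * (s : G) * k₁⁻¹ * (s : G)⁻¹) * (k₁ ^ n)⁻¹) *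
              (k₁ ^ n * (s : G) * (k₁ ^ n)⁻¹ * (s : G)⁻¹) := by
          rw [pow_succ]
          group
        rw [e1]
        exact Q.mul_mem
          ((Subgroup.mem_normalizer_iff.mp (Subgroup.pow_mem _ hk₁Q n) _).mp hbase) ih
    have hAS : Subgroup.zpowers k₁ ≤ Subgroup.normalizer (S : Set G) :=
      Subgroup.zpowers_le.mpr hk₁N
    have hAQ : Subgroup.zpowers k₁ ≤ Subgroup.normalizer (Q : Set G) :=
      Subgroup.zpowers_le.mpr hk₁Q
    have hcopA : (Nat.card (Subgroup.zpowers k₁)).Coprime (Nat.card S) := by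
      rw [Nat.card_zpowers, hord]
      exact Nat.Coprime.coprime_dvd_left hrdvd hcop.symm
    obtain ⟨c, hc, hsc⟩ := Cfsg.Agent.S0022.result (Subgroup.zpowers k₁) S hAS hcopA
      (Or.inr hsolvS) Q hQS hSQ hAQ (s : G) s.2
      (by
        intro a ha
        obtain ⟨n, hn⟩ := mem_powers_iff_mem_zpowers.mpr ha
        have hn' : k₁ ^ n = a := hn
        rw [← hn']
        exact hpow n)
    have hcKs : c ∈ S ⊓ Subgroup.centralizer ({k₁} : Set G) := by
      refine Subgroup.mem_inf.mpr ⟨(Subgroup.mem_inf.mp hc).1, ?_⟩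
      rw [Subgroup.mem_centralizer_iff]
      intro h hh
      rw [Set.mem_singleton_iff.mp hh]
      exact Subgroup.mem_centralizer_iff.mp (Subgroup.mem_inf.mp hc).2 k₁
        (Subgroup.mem_zpowers k₁)
    rw [hpr k₁ hk₁K hk₁1] at hcKs
    have hcQ : c ∈ Q := hKsQ hcKs
    have hsQ : (s : G) ∈ Q := by
      have h4 : (s : G)⁻¹ ∈ Q := by
        have := Q.mul_mem hsc (Q.inv_mem hcQ)
        simpa using this
      simpa using Q.inv_mem h4
    exact (hmemQ s).mp hsQ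
  have hiter : ∀ (n : ℕ) (s t : ↥S), (t : G) = k₁ ^ n * (s : G) * (k₁ ^ n)⁻¹ →
      (⇑φ)^[n] (QuotientGroup.mk s) = QuotientGroup.mk t := by
    intro n
    induction n with
    | zero =>
      intro s t ht
      have : t = s := Subtype.ext (by simpa using ht)
      rw [this]
      rfl
    | succ n ih =>
      intro s t ht
      rw [Function.iterate_succ_apply, hφ]
      apply ih
      rw [ht, hα, pow_succ]
      group
  have hφr : (⇑φ)^[r] = _root_.id := by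
    funext x
    refine QuotientGroup.induction_on x ?_
    intro s
    rw [hiter r s s (by rw [hk₁r]; simp)]
    rfl
  have hnilq : Group.IsNilpotent (↥S ⧸ N) :=
    Cfsg.Agent.S0033.fpf_nilpotent_of_iterate φ hfpf hr hφr
  have hcore : Cfsg.pCore q (↥S ⧸ N) = ⊥ :=
    Cfsg.Agent.Lib.Helper4.CN.pCore_quotient_eq_bot q N hNdef
  have htop : Group.IsNilpotent ↥(⊤ : Subgroup (↥S ⧸ N)) :=
    Group.nilpotent_of_mulEquiv Subgroup.topEquiv.symm
  have hnd := Cfsg.Agent.Lib.Helper4.CN.not_dvd_card_of_pCore_eq_bot hcore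
    (⊤ : Subgroup (↥S ⧸ N)) htop
  rw [Subgroup.card_top] at hnd
  have hrel : Q.relIndex S = Nat.card (↥S ⧸ N) := by
    have h1 : Q.subgroupOf S = N := by
      rw [hQdef]
      exact Subgroup.comap_map_eq_self_of_injective S.subtype_injective _
    unfold Subgroup.relIndex
    rw [h1]
    rfl
  rw [hrel]
  exact hnd

/-- **Step 3.** A normal Sylow `q`-subgroup `Q` of `S` (normal in `M = S K`) has a `K`-invariant
complement in `S` (Schur–Zassenhaus). -/
theorem exists_inv_compl (M S K Q : Subgroup G) (q : ℕ) [Fact q.Prime]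
    (hMs : Group.IsSolvable M) (hSM : S ≤ M) (hKM : K ≤ M)
    (hMS : M ≤ Subgroup.normalizer (S : Set G))
    (hSK : ∀ m ∈ M, ∃ s ∈ S, ∃ k ∈ K, m = s * k)
    (hcop : (Nat.card S).Coprime (Nat.card K))
    (hQS : Q ≤ S) (hMQ : M ≤ Subgroup.normalizer (Q : Set G)) (hQq : IsPGroup q Q)
    (hqi : ¬ q ∣ Q.relIndex S) (hqK : ¬ q ∣ Nat.card K) :
    ∃ D : Subgroup G, Cfsg.IsComplIn Q D S ∧ K ≤ Subgroup.normalizer (D : Set G) := by
  classical
  have hqp : q.Prime := Fact.out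
  have hsolvS : Group.IsSolvable S := Cfsg.Agent.Lib.Helper1.isSolvable_of_le hSM hMs
  have hKS : K ≤ Subgroup.normalizer (S : Set G) := hKM.trans hMS
  have hMeq : S ⊔ K = M := by
    apply le_antisymm (sup_le hSM hKM)
    intro m hm
    obtain ⟨s, hs, k, hk, rfl⟩ := hSK m hm
    exact Subgroup.mul_mem_sup hs hk
  have hcardM : Nat.card M = Nat.card S * Nat.card K := by
    rw [← hMeq]
    exact Cfsg.Agent.Lib.Helper1.card_sup_of_normalizer_coprime S K hKS hcop.symm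
  have hQM : Q ≤ M := hQS.trans hSM
  have e1 : Nat.card Q * Q.relIndex S = Nat.card S :=
    Cfsg.Agent.Lib.Helper35.BG.card_mul_relIndex' hQS
  have e2 : Nat.card Q * Q.relIndex M = Nat.card M :=
    Cfsg.Agent.Lib.Helper35.BG.card_mul_relIndex' hQM
  have hQpos : 0 < Nat.card Q := Nat.card_pos
  have e3 : Q.relIndex M = Q.relIndex S * Nat.card K := by
    apply Nat.eq_of_mul_eq_mul_left hQpos
    rw [e2, hcardM, ← e1, mul_assoc]
  obtain ⟨n, hn⟩ := IsPGroup.iff_card.mp hQq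
  have hcopq : ∀ m : ℕ, ¬ q ∣ m → (Nat.card Q).Coprime m := by
    intro m hm
    rw [hn]
    exact Nat.Coprime.pow_left n ((Nat.Prime.coprime_iff_not_dvd hqp).mpr hm)
  have hqiM : ¬ q ∣ Q.relIndex M := by
    rw [e3]
    intro h
    rcases (Nat.Prime.dvd_mul hqp).mp h with h | h
    · exact hqi h
    · exact hqK h
  obtain ⟨B, hBM, hBcard⟩ :=
    Cfsg.Agent.Lib.Helper1.sz_exists_internal M Q hQM hMQ (hcopq _ hqiM)
  have hBQ : B ≤ Subgroup.normalizer (Q : Set G) := hBM.trans hMQ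
  have hcopBQ : (Nat.card B).Coprime (Nat.card Q) := by
    rw [hBcard]
    exact (hcopq _ hqiM).symm
  have hQB : Q ⊔ B = M := by
    apply Subgroup.eq_of_le_of_card_ge (sup_le hQM hBM)
    rw [Cfsg.Agent.Lib.Helper1.card_sup_of_normalizer_coprime Q B hBQ hcopBQ, hBcard, e2]
  obtain ⟨D', hD'def⟩ : ∃ D' : Subgroup G, D' = B ⊓ S := ⟨_, rfl⟩
  have hD'S : D' ≤ S := by rw [hD'def]; exact inf_le_right
  have hD'B : D' ≤ B := by rw [hD'def]; exact inf_le_left
  have hQinfB : Q ⊓ B = ⊥ :=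
    disjoint_iff.mp (Subgroup.disjoint_of_coprime_natCard hcopBQ.symm)
  have hcompl' : Cfsg.IsComplIn Q D' S := by
    refine ⟨hQS, hD'S, ?_, ?_⟩
    · rw [eq_bot_iff, ← hQinfB]
      exact inf_le_inf_left _ hD'B
    · intro s hs
      have hsM : s ∈ Q ⊔ B := by rw [hQB]; exact hSM hs
      obtain ⟨a, ha, b, hb, rfl⟩ := exists_mul_of_mem_sup hBQ hsM
      refine ⟨a, ha, b, ?_, rfl⟩
      rw [hD'def]
      refine Subgroup.mem_inf.mpr ⟨hb, ?_⟩
      have : b = a⁻¹ * (a * b) := by group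
      rw [this]
      exact S.mul_mem (S.inv_mem (hQS ha)) hs
  have hD'card : Nat.card D' = Q.relIndex S :=
    (Cfsg.Agent.Lib.Helper35.BG.relIndex_left_of_isComplIn hcompl').symm
  have hBD' : B ≤ Subgroup.normalizer (D' : Set G) := by
    intro b hb
    rw [hD'def]
    exact mem_normalizer_inf (Subgroup.le_normalizer hb) (hMS (hBM hb))
  have e4 : Nat.card D' * D'.relIndex B = Nat.card B :=
    Cfsg.Agent.Lib.Helper35.BG.card_mul_relIndex' hD'B
  have hD'pos : 0 < Nat.card D' := Nat.card_pos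
  have e5 : D'.relIndex B = Nat.card K := by
    apply Nat.eq_of_mul_eq_mul_left hD'pos
    rw [e4, hBcard, e3, hD'card]
  have hcopD'K : (Nat.card D').Coprime (Nat.card K) :=
    Nat.Coprime.coprime_dvd_left (Subgroup.card_dvd_of_le hD'S) hcop
  obtain ⟨K'', hK''B, hK''card⟩ :=
    Cfsg.Agent.Lib.Helper1.sz_exists_internal B D' hD'B hBD' (by rw [e5]; exact hcopD'K)
  rw [e5] at hK''card
  have hK''M : K'' ≤ S ⊔ K := by rw [hMeq]; exact hK''B.trans hBM
  obtain ⟨n₀, hn₀, hconj⟩ := Cfsg.Agent.Lib.Helper1.sz_conj_internal S K K'' hKS hcop.symm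
    (Or.inr hsolvS) hK''M hK''card
  have hn₀Q : n₀ ∈ Subgroup.normalizer (Q : Set G) := hMQ (hSM hn₀)
  refine ⟨D'.map (MulAut.conj n₀).toMonoidHom, ⟨hQS, ?_, ?_, ?_⟩, ?_⟩
  · rintro _ ⟨d, hd, rfl⟩
    simp only [MulEquiv.coe_toMonoidHom, MulAut.conj_apply]
    exact S.mul_mem (S.mul_mem hn₀ (hD'S hd)) (S.inv_mem hn₀)
  · rw [eq_bot_iff]
    rintro x ⟨hxQ, d, hd, rfl⟩
    simp only [MulEquiv.coe_toMonoidHom, MulAut.conj_apply] at hxQ ⊢
    have h1 : d ∈ Q := (Subgroup.mem_normalizer_iff.mp hn₀Q d).mpr hxQ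
    have h2 : d ∈ Q ⊓ D' := Subgroup.mem_inf.mpr ⟨h1, hd⟩
    rw [hcompl'.2.2.1, Subgroup.mem_bot] at h2
    rw [h2]
    simp
  · intro s hs
    have h1 : n₀⁻¹ * s * n₀ ∈ S := S.mul_mem (S.mul_mem (S.inv_mem hn₀) hs) hn₀
    obtain ⟨a, ha, b, hb, hab⟩ := hcompl'.2.2.2 _ h1
    refine ⟨n₀ * a * n₀⁻¹, (Subgroup.mem_normalizer_iff.mp hn₀Q a).mp ha, n₀ * b * n₀⁻¹,
      ⟨b, hb, rfl⟩, ?_⟩
    have : s = n₀ * (n₀⁻¹ * s * n₀) * n₀⁻¹ := by group
    rw [this, hab]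
    group
  · intro k hk
    have hk' : n₀⁻¹ * k * n₀ ∈ K'' := by
      rw [← hconj] at hk
      exact (Cfsg.Agent.Lib.Helper1.mem_conj_smul K'' n₀ k).mp hk
    have hkN := hBD' (hK''B hk')
    apply Cfsg.Agent.Lib.Helper54.mem_normalizer_of_conj_mem
    rintro _ ⟨d, hd, rfl⟩
    simp only [MulEquiv.coe_toMonoidHom, MulAut.conj_apply]
    refine ⟨(n₀⁻¹ * k * n₀) * d * (n₀⁻¹ * k * n₀)⁻¹,
      (Subgroup.mem_normalizer_iff.mp hkN d).mp hd, ?_⟩
    simp only [MulEquiv.coe_toMonoidHom, MulAut.conj_apply]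
    group

/-- **B–G Theorem 15.2, group-theoretic part.** -/
theorem primeAction_structure (M S K : Subgroup G) (q : ℕ) [Fact q.Prime]
    (hMs : Group.IsSolvable M) (hModd : Odd (Nat.card M)) (hSM : S ≤ M) (hKM : K ≤ M)
    (hMS : M ≤ Subgroup.normalizer (S : Set G))
    (hSK : ∀ m ∈ M, ∃ s ∈ S, ∃ k ∈ K, m = s * k)
    (hcop : (Nat.card S).Coprime (Nat.card K)) (hK1 : K ≠ ⊥)
    (hq : Nat.card ↥(S ⊓ Subgroup.centralizer (K : Set G)) = q)
    (hpr : ∀ k ∈ K, k ≠ 1 →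
      S ⊓ Subgroup.centralizer ({k} : Set G) = S ⊓ Subgroup.centralizer (K : Set G))
    (hcomm : ⁅S, K⁆ = S) (hnil : ¬ Group.IsNilpotent S) :
    (Nat.card K).Prime ∧
    ∃ Q : Subgroup G, Q ≤ S ∧ M ≤ Subgroup.normalizer (Q : Set G) ∧ IsPGroup q Q ∧
      ¬ q ∣ Q.relIndex S ∧ S ⊓ Subgroup.centralizer (K : Set G) ≤ Q ∧
      ∀ D : Subgroup G, Cfsg.IsComplIn Q D S →
        Group.IsNilpotent D ∧
        M ≤ Subgroup.normalizer ((Q ⊓ Subgroup.centralizer (D : Set G) : Subgroup G) : Set G) ∧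
        Q ⊓ Subgroup.centralizer (D : Set G) < Q ∧
        Nat.card Q = Nat.card ↥(Q ⊓ Subgroup.centralizer (D : Set G)) * q ^ Nat.card K ∧
        (∀ a ∈ Q, ∀ b ∈ Q, a ^ q ∈ Q ⊓ Subgroup.centralizer (D : Set G) ∧
          a * b * a⁻¹ * b⁻¹ ∈ Q ⊓ Subgroup.centralizer (D : Set G)) ∧
        ∀ N : Subgroup G, Q ⊓ Subgroup.centralizer (D : Set G) < N → N < Q →
          ¬ M ≤ Subgroup.normalizer (N : Set G) := by
  classical
  have hqp : q.Prime := Fact.out
  have hKsQ := ks_le_pCore M S K q hMs hModd hSM hKM hMS hSK hcop hq hpr hcomm hnil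
  have hsyl := pCore_sylow M S K q hMs hSM hKM hMS hcop hK1 hpr hKsQ
  obtain ⟨Q, hQdef⟩ : ∃ Q : Subgroup G, Q = (Cfsg.pCore q ↥S).map S.subtype := ⟨_, rfl⟩
  rw [← hQdef] at hKsQ hsyl
  have hQS : Q ≤ S := by rw [hQdef]; exact Subgroup.map_subtype_le _
  have hQq : IsPGroup q Q := by
    rw [hQdef]
    exact (Cfsg.Agent.Lib.Helper55.pCore_isPGroup q ↥S).map _
  have hMQ : M ≤ Subgroup.normalizer (Q : Set G) := by
    intro m hm
    apply Cfsg.Agent.Lib.Helper54.mem_normalizer_of_conj_mem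
    rw [hQdef]
    rintro _ ⟨f, hf, rfl⟩
    let α : MulAut ↥S := Cfsg.Agent.Lib.Helper48.normConj S ⟨m, hMS hm⟩
    have h1 := Subgroup.characteristic_iff_comap_eq.mp
      (Cfsg.Agent.Lib.Helper23.pCore_characteristic q ↥S) α
    have h2 : f ∈ (Cfsg.pCore q ↥S).comap α.toMonoidHom := by rw [h1]; exact hf
    exact ⟨α f, h2, rfl⟩
  have hqS : q ∣ Nat.card S := by rw [← hq]; exact Subgroup.card_dvd_of_le inf_le_left
  have hqK : ¬ q ∣ Nat.card K := fun h =>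
    hqp.one_lt.ne' (Nat.eq_one_of_dvd_coprimes hcop hqS h)
  obtain ⟨D₀, hD₀, hKD₀⟩ :=
    exists_inv_compl M S K Q q hMs hSM hKM hMS hSK hcop hQS hMQ hQq hsyl hqK
  have hqD₀ : ¬ q ∣ Nat.card D₀ := by
    rw [← Cfsg.Agent.Lib.Helper35.BG.relIndex_left_of_isComplIn hD₀]
    exact hsyl
  obtain ⟨hD₀nil, hKprime, hMQ₀, hQ₀lt, hcardQ, hpc, hmin⟩ :=
    primeAction_inv M S K Q D₀ q hSM hKM hSK hcop hK1 hq hpr hnil hMQ hQq hKsQ hD₀ hqD₀ hKD₀
  refine ⟨hKprime, Q, hQS, hMQ, hQq, hsyl, hKsQ, ?_⟩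
  intro D hD
  have hD₀Q : D₀ ≤ Subgroup.normalizer (Q : Set G) := (hD₀.2.1.trans hSM).trans hMQ
  have hcopD₀Q : (Nat.card D₀).Coprime (Nat.card Q) := by
    obtain ⟨n, hn⟩ := IsPGroup.iff_card.mp hQq
    rw [hn]
    exact (Nat.Coprime.pow_left n ((Nat.Prime.coprime_iff_not_dvd hqp).mpr hqD₀)).symm
  have hQD₀ : Q ⊔ D₀ = S := by
    apply le_antisymm (sup_le hQS hD₀.2.1)
    intro s hs
    obtain ⟨a, ha, b, hb, rfl⟩ := hD₀.2.2.2 s hs
    exact Subgroup.mul_mem_sup ha hb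
  have hcardD : Nat.card D = Nat.card D₀ := by
    have h1 := Cfsg.Agent.Lib.Helper23.card_of_isComplIn hD
    have h2 := Cfsg.Agent.Lib.Helper23.card_of_isComplIn hD₀
    have hQpos : 0 < Nat.card Q := Nat.card_pos
    exact Nat.eq_of_mul_eq_mul_left hQpos (by rw [← h1, ← h2])
  have hsolvQ : Group.IsSolvable Q :=
    Cfsg.Agent.Lib.Helper1.isSolvable_of_le (hQS.trans hSM) hMs
  obtain ⟨n, hn, hconj⟩ := Cfsg.Agent.Lib.Helper1.sz_conj_internal Q D₀ D hD₀Q hcopD₀Q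
    (Or.inr hsolvQ) (by rw [hQD₀]; exact hD.2.1) hcardD
  have hmemD : ∀ x : G, x ∈ D ↔ n * x * n⁻¹ ∈ D₀ := by
    intro x
    rw [← hconj, Cfsg.Agent.Lib.Helper1.mem_conj_smul]
    have e1 : n⁻¹ * (n * x * n⁻¹) * n = x := by group
    rw [e1]
  have hnQ₀ : n ∈ Subgroup.normalizer
      ((Q ⊓ Subgroup.centralizer (D₀ : Set G) : Subgroup G) : Set G) := hMQ₀ (hSM (hQS hn))
  have hnQ : n ∈ Subgroup.normalizer (Q : Set G) := hMQ (hSM (hQS hn))
  have heq : Q ⊓ Subgroup.centralizer (D : Set G) = Q ⊓ Subgroup.centralizer (D₀ : Set G) := by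
    ext x
    rw [Subgroup.mem_normalizer_iff.mp hnQ₀ x, Subgroup.mem_inf, Subgroup.mem_inf,
      ← Subgroup.mem_normalizer_iff.mp hnQ x]
    apply and_congr Iff.rfl
    rw [Subgroup.mem_centralizer_iff, Subgroup.mem_centralizer_iff]
    constructor
    · intro h d₀ hd₀
      have hd : n⁻¹ * d₀ * n ∈ D := by
        rw [hmemD]
        have e1 : n * (n⁻¹ * d₀ * n) * n⁻¹ = d₀ := by group
        rw [e1]
        exact hd₀
      have h1 := h _ hd
      calc d₀ * (n * x * n⁻¹) = n * ((n⁻¹ * d₀ * n) * x) * n⁻¹ := by group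
        _ = n * (x * (n⁻¹ * d₀ * n)) * n⁻¹ := by rw [h1]
        _ = n * x * n⁻¹ * d₀ := by group
    · intro h d hd
      have h1 := h _ ((hmemD d).mp hd)
      calc d * x = n⁻¹ * ((n * d * n⁻¹) * (n * x * n⁻¹)) * n := by group
        _ = n⁻¹ * ((n * x * n⁻¹) * (n * d * n⁻¹)) * n := by rw [h1]
        _ = x * d := by group
  rw [heq]
  refine ⟨?_, hMQ₀, hQ₀lt, hcardQ, hpc, hmin⟩
  have hD' : Group.IsNilpotent ↥(MulAut.conj n • D) := by
    rw [hconj]
    exact hD₀nil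
  exact Group.nilpotent_of_mulEquiv (Subgroup.equivSMul (MulAut.conj n) D).symm

end Cfsg.Agent.Lib.Helper54.BG
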